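import Groth.Prelude.Def_SekSuwa2
import Groth.Prelude.Def_TwC
import Mathlib

/-!
# The points of an affine group with constant generic fibre
-/

universe u
open CategoryTheory AlgebraicGeometry TensorProduct
open CategoryTheory.MonObj CategoryTheory.CartesianMonoidalCategory MonoidalCategory

noncomputable section

namespace Groth.Agent.SekK

/-- A point of the base-changed group as a point of the group. -/
def toBase {S S' : Scheme.{u}} {G : Over S} {τ : S' ⟶ S} {U : Over S'} (f : U ⟶ Red.bc τ G) :
    (Over.map τ).obj U ⟶ G :=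
  ((Over.mapPullbackAdj τ).homEquiv _ _).symm f

theorem toBase_left {S S' : Scheme.{u}} {G : Over S} {τ : S' ⟶ S} {U : Over S'}
    (f : U ⟶ Red.bc τ G) : (toBase f).left = f.left ≫ Limits.pullback.fst _ _ := by
  rw [toBase, Adjunction.homEquiv_counit]
  simp [Over.mapPullbackAdj]

theorem toBase_mul {S S' : Scheme.{u}} {G : Over S} [GrpObj G] {τ : S' ⟶ S} {U : Over S'}
    (f g : U ⟶ Red.bc τ G) : toBase (f * g) = toBase f * toBase g := by
  apply ((Over.mapPullbackAdj τ).homEquiv _ _).injective
  rw [toBase, Equiv.apply_symm_apply, Adjunction.homEquiv_unit, Functor.map_mul, MonObj.comp_mul,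
    ← Adjunction.homEquiv_unit, ← Adjunction.homEquiv_unit, toBase, toBase, Equiv.apply_symm_apply,
    Equiv.apply_symm_apply]

theorem toBase_injective {S S' : Scheme.{u}} {G : Over S} {τ : S' ⟶ S} {U : Over S'} :
    Function.Injective (toBase : (U ⟶ Red.bc τ G) → _) :=
  Equiv.injective _

variable (R K A : Type u) [CommRing R] [Field K] [Algebra R K] [CommRing A] [HopfAlgebra R A]

/-- The group scheme of a Hopf algebra. -/
abbrev SpecH : Over (Spec (CommRingCat.of R)) := (Spec (CommRingCat.of A)).asOver (Spec (CommRingCat.of R))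

/-- The base field as a scheme over the base. -/
abbrev SpecK : Over (Spec (CommRingCat.of R)) := (Spec (CommRingCat.of K)).asOver (Spec (CommRingCat.of R))

/-- The scheme `Spec K` over `Spec R`, mapped from the final object over `Spec K`. -/
def unitIso : SpecK R K ≅
    (Over.map (Spec.map (CommRingCat.ofHom (algebraMap R K)))).obj (𝟙_ (Over (Spec (CommRingCat.of K)))) :=
  Over.isoMk (Iso.refl _) (by
    show 𝟙 (Spec (CommRingCat.of K)) ≫ 𝟙 (Spec (CommRingCat.of K)) ≫
      Spec.map (CommRingCat.ofHom (algebraMap R K)) = Spec.map (CommRingCat.ofHom (algebraMap R K))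
    simp)

variable {R K A} {M : Type} [Group M]
  (G : Over (Spec (CommRingCat.of R))) [GrpObj G]
  (e0 : SpecH R A ≅ G) [IsMonHom e0.hom]
  (e : Red.bc (Spec.map (CommRingCat.ofHom (algebraMap R K))) G ≅ TwC.const (Spec (CommRingCat.of K)) M)

/-- The point of `G` of index `m`. -/
def point (m : M) : SpecK R K ⟶ SpecH R A :=
  ((unitIso R K).hom ≫ toBase (TwC.pt (Spec (CommRingCat.of K)) M m ≫ e.inv)) ≫ e0.inv

/-- The value at the point of index `m`. -/
def chi (m : M) : A →ₐ[R] K := (Spec.mapMulEquiv.symm (point G e0 e m)).ofConv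

theorem point_left (m : M) : (point G e0 e m).left =
    (Limits.Sigma.ι (fun _ : M => Spec (CommRingCat.of K)) m ≫ e.inv.left) ≫
      Limits.pullback.fst _ _ ≫ e0.inv.left := by
  rw [point, Over.comp_left, Over.comp_left, toBase_left]
  show (𝟙 (Spec (CommRingCat.of K)) ≫ _) ≫ _ = _
  rw [Category.id_comp, Over.comp_left, Category.assoc, Category.assoc, Category.assoc]
  rfl

theorem spec_chi (m : M) :
    Spec.map (CommRingCat.ofHom (chi G e0 e m).toRingHom) = (point G e0 e m).left := by
  have h := (Spec.mapMulEquiv (R := R) (S := A) (T := K)).apply_symm_apply (point G e0 e m)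
  exact congrArg (fun f => f.left) h

theorem chi_mul (he : TwC.IsConstGrp M (Red.bc (Spec.map (CommRingCat.ofHom (algebraMap R K))) G) e)
    (m n : M) :
    WithConv.toConv (chi G e0 e m) * WithConv.toConv (chi G e0 e n) =
      WithConv.toConv (chi G e0 e (m * n)) := by
  show Spec.mapMulEquiv.symm (point G e0 e m) * Spec.mapMulEquiv.symm (point G e0 e n) =
    Spec.mapMulEquiv.symm (point G e0 e (m * n))
  rw [← map_mul, point, point, point, ← MonObj.mul_comp, ← MonObj.comp_mul, ← toBase_mul, he m n]

theorem chi_one (he : TwC.IsConstGrp M (Red.bc (Spec.map (CommRingCat.ofHom (algebraMap R K))) G) e) :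
    WithConv.toConv (chi G e0 e 1) = 1 := by
  have h : point G e0 e 1 * point G e0 e 1 = point G e0 e 1 := by
    apply (Spec.mapMulEquiv (R := R) (S := A) (T := K)).symm.injective
    rw [map_mul]
    exact (chi_mul G e0 e he 1 1).trans (by rw [_root_.one_mul]; rfl)
  show Spec.mapMulEquiv.symm (point G e0 e 1) = 1
  rw [mul_eq_left.mp h, map_one]

theorem chi_injective : Function.Injective (chi G e0 e) := by
  intro m n h
  by_contra hmn
  have h1 : point G e0 e m = point G e0 e n := by
    apply (Spec.mapMulEquiv (R := R) (S := A) (T := K)).symm.injective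
    exact congrArg WithConv.toConv h
  rw [point, point, cancel_mono, cancel_epi] at h1
  have h2 := congrArg (fun f : 𝟙_ (Over (Spec (CommRingCat.of K))) ⟶ _ => f.left)
    ((cancel_mono e.inv).mp (toBase_injective h1))
  have x : ↥(Spec (CommRingCat.of K)) := (⊥ : PrimeSpectrum K)
  have h3 : Limits.Sigma.ι (fun _ : M => Spec (CommRingCat.of K)) m =
      Limits.Sigma.ι (fun _ : M => Spec (CommRingCat.of K)) n := h2
  have hm : (Limits.Sigma.ι (fun _ : M => Spec (CommRingCat.of K)) m).base x ∈
      (Limits.Sigma.ι (fun _ : M => Spec (CommRingCat.of K)) m).opensRange := ⟨x, rfl⟩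
  have hn : (Limits.Sigma.ι (fun _ : M => Spec (CommRingCat.of K)) m).base x ∈
      (Limits.Sigma.ι (fun _ : M => Spec (CommRingCat.of K)) n).opensRange :=
    ⟨x, by rw [h3]⟩
  exact (disjoint_opensRange_sigmaι (fun _ : M => Spec (CommRingCat.of K)) m n hmn).le_bot ⟨hm, hn⟩

/-- A function vanishing at all points vanishes on the generic fibre. -/
theorem tmul_eq_zero (a : A) (ha : ∀ m, chi G e0 e m a = 0) : a ⊗ₜ[R] (1 : K) = 0 := by
  let g := Spec.map (CommRingCat.ofHom (algebraMap R K))
  let ι₁ : CommRingCat.of A ⟶ CommRingCat.of (A ⊗[R] K) :=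
    CommRingCat.ofHom (Algebra.TensorProduct.includeLeft : A →ₐ[R] A ⊗[R] K).toRingHom
  let ι₂ : CommRingCat.of K ⟶ CommRingCat.of (A ⊗[R] K) :=
    CommRingCat.ofHom (Algebra.TensorProduct.includeRight : K →ₐ[R] A ⊗[R] K).toRingHom
  have w0 : Spec.map ι₁ ≫ Spec.map (CommRingCat.ofHom (algebraMap R A)) = Spec.map ι₂ ≫ g := by
    rw [← Spec.map_comp, ← Spec.map_comp]
    congr 1
    ext r
    exact (Algebra.TensorProduct.includeLeft : A →ₐ[R] A ⊗[R] K).commutes r |>.trans
      ((Algebra.TensorProduct.includeRight : K →ₐ[R] A ⊗[R] K).commutes r).symm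
  have w : (Spec.map ι₁ ≫ e0.hom.left) ≫ G.hom = Spec.map ι₂ ≫ g := by
    rw [Category.assoc]; erw [Over.w e0.hom]; exact w0
  let q : Spec (CommRingCat.of (A ⊗[R] K)) ⟶
      (Red.bc (Spec.map (CommRingCat.ofHom (algebraMap R K))) G).left :=
    Limits.pullback.lift (Spec.map ι₁ ≫ e0.hom.left) (Spec.map ι₂) w
  let π := Limits.pullback.fst G.hom g ≫ e0.inv.left
  have hq : q ≫ π = Spec.map ι₁ := by
    show q ≫ Limits.pullback.fst G.hom g ≫ e0.inv.left = _
    have h0 : e0.hom.left ≫ e0.inv.left = 𝟙 (Spec (CommRingCat.of A)) :=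
      congrArg (fun k => k.left) e0.hom_inv_id
    rw [← Category.assoc, Limits.pullback.lift_fst, Category.assoc]
    erw [h0]
    exact Category.comp_id _
  let fa : CommRingCat.of (Polynomial R) ⟶ CommRingCat.of A :=
    CommRingCat.ofHom (Polynomial.aeval a).toRingHom
  let f0 : CommRingCat.of (Polynomial R) ⟶ CommRingCat.of A :=
    CommRingCat.ofHom (Polynomial.aeval (0 : A)).toRingHom
  have hf : π ≫ Spec.map fa = π ≫ Spec.map f0 := by
    have : IsIso e.inv.left := inferInstanceAs (IsIso ((Over.forget _).map e.inv))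
    rw [← cancel_epi e.inv.left]
    refine Limits.Sigma.hom_ext _ _ fun m => ?_
    have hm : Limits.Sigma.ι (fun _ : M => Spec (CommRingCat.of K)) m ≫ e.inv.left ≫ π =
        Spec.map (CommRingCat.ofHom (chi G e0 e m).toRingHom) := by
      rw [spec_chi, point_left, Category.assoc]
    rw [reassoc_of% hm, reassoc_of% hm]
    refine (Spec.map_comp _ _).symm.trans (Eq.trans ?_ (Spec.map_comp _ _))
    congr 1
    refine CommRingCat.hom_ext (congrArg AlgHom.toRingHom
      (Polynomial.algHom_ext (f := (chi G e0 e m).comp (Polynomial.aeval a))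
        (g := (chi G e0 e m).comp (Polynomial.aeval (0 : A))) ?_))
    simp [ha m]
  have h1 := congrArg (fun k => q ≫ k) hf
  simp only [← Category.assoc, hq] at h1
  have h1' := (Spec.map_comp _ _).trans (h1.trans (Spec.map_comp _ _).symm)
  have h2 := congrArg (fun k => k.hom Polynomial.X) (Spec.map_injective h1')
  change (Polynomial.aeval a Polynomial.X) ⊗ₜ[R] (1 : K) = (Polynomial.aeval (0 : A) Polynomial.X) ⊗ₜ[R] (1 : K) at h2
  rwa [Polynomial.aeval_X, Polynomial.aeval_X, TensorProduct.zero_tmul] at h2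

end Groth.Agent.SekK
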