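import Groth.Prelude.Def_SekSuwa2
import Groth.Prelude.Def_NonAbH2
import Groth.Prelude.Def_SGA3
import Groth.Prelude.Def_AlgGrp
import Mathlib

/-!
# Short exact sequences of affine group schemes from Hopf algebras
-/

universe u
open CategoryTheory CategoryTheory.Limits AlgebraicGeometry MonoidalCategory CartesianMonoidalCategory MonObj

namespace Groth.Agent.SekK

/-- A kernel gives the pseudo-torsor square. -/
theorem isPullback_of_isKernel {S : Scheme.{u}} {G' G G'' : Over S} [GrpObj G'] [GrpObj G] [GrpObj G'']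
    (u : G' ⟶ G) (v : G ⟶ G'') [IsMonHom v] (hk : AlgGrp.IsKernel u v) (huv : u ≫ v = 1) :
    IsPullback (fst G G') ((G ◁ u) ≫ μ[G]) v v := by
  have hmul : ∀ {T : Over S} (a : T ⟶ G) (w : T ⟶ G'),
      lift a w ≫ (G ◁ u) ≫ μ[G] = a * (w ≫ u) := fun a w => by
    rw [lift_whiskerLeft_assoc, Hom.mul_def]
  have hw : (G ◁ u) ≫ μ[G] = fst G G' * (snd G G' ≫ u) := by
    have := hmul (fst G G') (snd G G')
    rwa [lift_fst_snd, Category.id_comp] at this
  have hd : ∀ s : PullbackCone v v, (s.fst⁻¹ * s.snd) ≫ v = toUnit s.pt ≫ η[G''] := fun s => by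
    rw [MonObj.mul_comp, GrpObj.inv_comp, s.condition, inv_mul_cancel, Hom.one_def]
  choose w hwu using fun s : PullbackCone v v =>
    (⟨hk.lift _ _ (hd s), hk.lift_fst _ _ (hd s)⟩ : ∃ w : s.pt ⟶ G', w ≫ u = s.fst⁻¹ * s.snd)
  have hinj : ∀ {T : Over S} (a b : T ⟶ G'), a ≫ u = b ≫ u → a = b := fun a b h =>
    hk.hom_ext h (toUnit_unique _ _)
  refine ⟨⟨?_⟩, ⟨PullbackCone.IsLimit.mk _ (fun s => lift s.fst (w s)) (fun s => lift_fst _ _) (fun s => ?_)
    (fun s m h1 h2 => ?_)⟩⟩
  · rw [hw, MonObj.mul_comp, Category.assoc, huv, MonObj.comp_one, _root_.mul_one]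
  · rw [hmul, hwu, mul_inv_cancel_left]
  · refine CartesianMonoidalCategory.hom_ext _ _ (by rw [lift_fst, h1]) ?_
    rw [lift_snd]
    refine hinj _ _ ?_
    rw [hwu, ← h1, ← h2, hw, MonObj.comp_mul, Category.assoc, inv_mul_cancel_left]

variable {R : Type u} [CommRing R] {A A' A'' : Type u} [CommRing A] [CommRing A'] [CommRing A'']
  [HopfAlgebra R A] [HopfAlgebra R A'] [HopfAlgebra R A'']

/-- The affine group scheme of a Hopf algebra. -/
noncomputable abbrev SpecA (R : Type u) [CommRing R] (A : Type u) [CommRing A] [Algebra R A] :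
    Over (Spec (CommRingCat.of R)) :=
  (Spec (CommRingCat.of A)).asOver (Spec (CommRingCat.of R))

theorem toUnit_left : (toUnit (SpecA R A)).left = Spec.map (CommRingCat.ofHom (algebraMap R A)) := by
  rw [← Category.comp_id (toUnit (SpecA R A)).left]
  exact Over.w (toUnit (SpecA R A))

/-- The augmentation ideal of a sub-Hopf-algebra cuts out the kernel. -/
theorem isKernel_specHom (f : A'' →ₐc[R] A) (g : A →ₐc[R] A') (hg : Function.Surjective g)
    (hgf : g.comp f = (Bialgebra.unitBialgHom R A').comp (Bialgebra.counitBialgHom R A''))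
    (hker : ∀ a : A, g a = 0 →
      a ∈ Ideal.span (f '' {b | CoalgebraStruct.counit (R := R) b = 0})) :
    AlgGrp.IsKernel (SekSuwa.specHom g) (SekSuwa.specHom f) := by
  have h0 : SekSuwa.specHom g ≫ SekSuwa.specHom f = 1 := by
    rw [← SekSuwa.specHom_comp, hgf, SekSuwa.specHom_trivial]
  refine IsPullback.of_map (Over.forget _) (h0.trans Hom.one_def) ?_
  show IsPullback (SekSuwa.specHom g).left (toUnit (SpecA R A')).left (SekSuwa.specHom f).left
    η[SpecA R A''].left
  rw [toUnit_left, SekSuwa.specHom_left, SekSuwa.specHom_left, one_spec_asOver_spec_left]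
  refine isPullback_SpecMap_of_isPushout _ _ _ _ ?_
  have hw : (g : A →+* A').comp (f : A'' →+* A) =
      (algebraMap R A').comp (Bialgebra.counitAlgHom R A'').toRingHom :=
    RingHom.ext fun a => DFunLike.congr_fun hgf a
  have hkill : ∀ c : PushoutCocone (CommRingCat.ofHom (f : A'' →+* A))
      (CommRingCat.ofHom (Bialgebra.counitAlgHom R A'').toRingHom),
      ∀ a ∈ RingHom.ker (g : A →+* A'), c.inl.hom a = 0 := by
    intro c a ha
    refine (Ideal.span_le (I := RingHom.ker c.inl.hom)).mpr ?_ (hker a ha)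
    rintro _ ⟨b, hb, rfl⟩
    have h1 := congrArg (fun k => k.hom b) c.condition
    have h2 : Bialgebra.counitAlgHom R A'' b = 0 := hb
    exact h1.trans ((congrArg c.inr.hom h2).trans (map_zero _))
  refine ⟨⟨CommRingCat.hom_ext hw⟩, ⟨PushoutCocone.IsColimit.mk _
    (fun c => CommRingCat.ofHom (RingHom.liftOfSurjective (g : A →+* A') hg ⟨c.inl.hom, hkill c⟩))
    (fun c => CommRingCat.hom_ext (RingHom.liftOfRightInverse_comp _ _ _ _)) (fun c => ?_) ?_⟩⟩
  · refine CommRingCat.hom_ext (RingHom.ext fun r => ?_)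
    have h1 := congrArg (fun k => k.hom (algebraMap R A'' r)) c.condition
    have h4 : Bialgebra.counitAlgHom R A'' (algebraMap R A'' r) = r := AlgHom.commutes _ _
    have h5 : f (algebraMap R A'' r) = algebraMap R A r :=
      AlgHom.commutes (f : A'' →ₐ[R] A) r
    have h6 : g (algebraMap R A r) = algebraMap R A' r := AlgHom.commutes (g : A →ₐ[R] A') r
    refine Eq.trans ?_ ((congrArg c.inl.hom h5).symm.trans (h1.trans (congrArg c.inr.hom h4)))
    show RingHom.liftOfSurjective (g : A →+* A') hg ⟨c.inl.hom, hkill c⟩ (algebraMap R A' r) = _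
    rw [← h6]
    exact RingHom.liftOfRightInverse_comp_apply _ _ _ _ _
  · intro c m hm₁ hm₂
    refine CommRingCat.hom_ext (RingHom.ext fun x => ?_)
    obtain ⟨a, rfl⟩ := hg x
    exact (congrArg (fun k => k.hom a) hm₁).trans
      (RingHom.liftOfRightInverse_comp_apply (g : A →+* A') _ (Function.rightInverse_surjInv hg) ⟨c.inl.hom, hkill c⟩ a).symm

/-- A faithfully flat finitely presented map acquires a section on a covering. -/
theorem isLocallyTrivialFor_specHom (f : A'' →ₐc[R] A) (hf : (f : A'' →+* A).FaithfullyFlat)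
    (hfp : (f : A'' →+* A).FinitePresentation) :
    NonAbH1.IsLocallyTrivialFor Scheme.fppfPrecoverage
      (Over.mk (SekSuwa.specHom f).left : Over (SpecA R A'').left) := by
  haveI : Flat (SekSuwa.specHom f).left :=
    (HasRingHomProperty.Spec_iff (P := @Flat)).mpr hf.flat
  haveI : LocallyOfFinitePresentation (SekSuwa.specHom f).left :=
    (HasRingHomProperty.Spec_iff (P := @LocallyOfFinitePresentation)).mpr hfp
  haveI : Surjective (SekSuwa.specHom f).left :=
    ⟨fun x => (RingHom.FaithfullyFlat.iff_flat_and_comap_surjective.mp hf).2 x⟩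
  refine ⟨_, (SekSuwa.specHom f).left.singleton_mem_fppfPrecoverage, ?_⟩
  rintro _ _ ⟨⟩
  exact ⟨𝟙 _, Category.id_comp _⟩

end Groth.Agent.SekK
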