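import Groth.Agent.SekK.Basic
import Groth.Prelude.Def_AlgGrp
import Mathlib

/-!
# Actions by automorphisms between the groups G_{λ,1}
-/

universe u v
open CategoryTheory AlgebraicGeometry TensorProduct
open CategoryTheory.MonObj CategoryTheory.CartesianMonoidalCategory MonoidalCategory

noncomputable section

namespace Groth.Agent.SekK

/-- An automorphism action of a group of order p on a group of order p is trivial. -/
theorem smul_eq_self {H₁ H₂ : Type*} [Group H₁] [Group H₂] (p : ℕ) [hp : Fact p.Prime]
    (h₁ : Nat.card H₁ = p) (h₂ : Nat.card H₂ = p) (ρ : H₁ → H₂ → H₂)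
    (hone : ∀ x, ρ 1 x = x) (hmul : ∀ g g' x, ρ (g * g') x = ρ g (ρ g' x))
    (hhom : ∀ g x y, ρ g (x * y) = ρ g x * ρ g y) (g : H₁) (x : H₂) : ρ g x = x := by
  haveI : Finite H₁ := Nat.finite_of_card_ne_zero (h₁ ▸ hp.out.pos.ne')
  haveI : Finite H₂ := Nat.finite_of_card_ne_zero (h₂ ▸ hp.out.pos.ne')
  have hbij : ∀ g, Function.Bijective (ρ g) := fun g =>
    Function.bijective_iff_has_inverse.mpr ⟨ρ g⁻¹,
      fun x => by rw [← hmul, inv_mul_cancel, hone], fun x => by rw [← hmul, mul_inv_cancel, hone]⟩
  let Φ : H₁ →* MulAut H₂ :=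
    { toFun := fun g => { Equiv.ofBijective (ρ g) (hbij g) with map_mul' := hhom g }
      map_one' := MulEquiv.ext hone
      map_mul' := fun g g' => MulEquiv.ext fun x => hmul g g' x }
  haveI : IsCyclic H₂ := isCyclic_of_prime_card h₂
  have h3 : Nat.card (MulAut H₂) = p - 1 := by
    rw [IsCyclic.card_mulAut, h₂, Nat.totient_prime hp.out]
  have h4 : orderOf (Φ g) ∣ p := (orderOf_map_dvd Φ g).trans (h₁ ▸ orderOf_dvd_natCard g)
  have h5 : orderOf (Φ g) ∣ p - 1 := h3 ▸ orderOf_dvd_natCard (Φ g)
  have h6 : orderOf (Φ g) = 1 := by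
    rcases (Nat.dvd_prime hp.out).mp h4 with h | h
    · exact h
    · rw [h] at h5
      exact absurd (Nat.le_of_dvd (by have := hp.out.two_le; omega) h5) (by have := hp.out.two_le; omega)
  exact DFunLike.congr_fun (orderOf_eq_one_iff.mp h6) x

variable {R : Type u} [CommRing R] {K : Type u} [Field K] [CharZero K] [IsAlgClosed K] [Algebra R K]
  (hinj : Function.Injective (algebraMap R K)) {p : ℕ} [hp : Fact p.Prime]
  {lam : R} (h : SekSuwa.DivCond lam p) (hlam : lam ≠ 0)

variable (K lam p) in
/-- The roots of `P_{λ,p}`. -/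
def root (i : Fin p) : K :=
  ((HasEnoughRootsOfUnity.exists_primitiveRoot K p).choose ^ (i : ℕ) - 1) / algebraMap R K lam

include hinj hlam in
theorem root_injective : Function.Injective (root K p lam) := by
  intro i j hij
  have hl : algebraMap R K lam ≠ 0 := (map_ne_zero_iff _ hinj).mpr hlam
  simp only [root, div_left_inj' hl, sub_left_inj] at hij
  exact Fin.ext ((HasEnoughRootsOfUnity.exists_primitiveRoot K p).choose_spec.pow_inj i.2 j.2 hij)

include hinj hlam in
theorem aeval_root (i : Fin p) : Polynomial.aeval (root K p lam i) (SekSuwa.psiPoly lam p h) = 0 := by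
  have hl : algebraMap R K lam ≠ 0 := (map_ne_zero_iff _ hinj).mpr hlam
  have h1 := SekSuwa.aeval_psiPoly h (root K p lam i)
  have h2 : algebraMap R K lam * root K p lam i + 1 =
      (HasEnoughRootsOfUnity.exists_primitiveRoot K p).choose ^ (i : ℕ) := by
    rw [root, mul_div_cancel₀ _ hl]; ring
  rw [add_comm, h2, ← pow_mul, mul_comm (i : ℕ), pow_mul,
    (HasEnoughRootsOfUnity.exists_primitiveRoot K p).choose_spec.pow_eq_one, one_pow, sub_self,
    mul_eq_zero, map_pow] at h1
  exact h1.resolve_left (pow_ne_zero _ hl)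

variable (K) in
/-- The geometric point of index `i`. -/
def rootHom (i : Fin p) : SekSuwa.AK R lam p h →ₐ[R] K :=
  (AdjoinRoot.liftAlgHom _ (Algebra.ofId R K) (root K p lam i)
    (by simpa [Polynomial.aeval_def, Algebra.ofId] using aeval_root hinj h hlam i)).comp
    (equivRoot h hp.out.pos).symm.toAlgHom

theorem rootHom_t (i : Fin p) : rootHom K hinj h hlam i SekSuwa.AK.t = root K p lam i := by
  rw [rootHom, AlgHom.comp_apply,
    show (equivRoot h hp.out.pos).symm.toAlgHom SekSuwa.AK.t = AdjoinRoot.root _ from toRoot_t h hp.out.pos,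
    AdjoinRoot.liftAlgHom_root]

include hinj hlam in
theorem card_points : Nat.card (SekSuwa.AK R lam p h →ₐ[R] K) = p := by
  classical
  have hP := (monic h hp.out.pos).map (algebraMap R K)
  have hext : ∀ f g : SekSuwa.AK R lam p h →ₐ[R] K, f SekSuwa.AK.t = g SekSuwa.AK.t → f = g := by
    intro f g hfg
    have h1 : f.comp (equivRoot h hp.out.pos).toAlgHom = g.comp (equivRoot h hp.out.pos).toAlgHom := by
      apply AdjoinRoot.algHom_ext
      have hr : equivRoot h hp.out.pos (AdjoinRoot.root _) = SekSuwa.AK.t :=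
        ((equivRoot h hp.out.pos).symm_apply_eq.mp (toRoot_t h hp.out.pos)).symm
      show f (equivRoot h hp.out.pos (AdjoinRoot.root _)) = g (equivRoot h hp.out.pos (AdjoinRoot.root _))
      rw [hr, hfg]
    refine AlgHom.ext fun a => ?_
    obtain ⟨b, rfl⟩ := (equivRoot h hp.out.pos).surjective a
    exact DFunLike.congr_fun h1 b
  have hmem : ∀ f : SekSuwa.AK R lam p h →ₐ[R] K,
      f SekSuwa.AK.t ∈ ((SekSuwa.psiPoly lam p h).map (algebraMap R K)).roots.toFinset := by
    intro f
    rw [Multiset.mem_toFinset, Polynomial.mem_roots hP.ne_zero, Polynomial.IsRoot,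
      Polynomial.eval_map, ← Polynomial.aeval_def, Polynomial.aeval_algHom_apply,
      SekSuwa.AK.aeval_t, map_zero]
  have hle : ((SekSuwa.psiPoly lam p h).map (algebraMap R K)).roots.toFinset.card ≤ p :=
    (Multiset.toFinset_card_le _).trans ((Polynomial.card_roots' _).trans
      (Polynomial.natDegree_map_le.trans (psiPoly_monic h hp.out.pos).1))
  have hinj' : Function.Injective fun f : SekSuwa.AK R lam p h →ₐ[R] K =>
      (⟨_, hmem f⟩ : ((SekSuwa.psiPoly lam p h).map (algebraMap R K)).roots.toFinset) :=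
    fun f g hfg => hext f g (congrArg Subtype.val hfg)
  haveI := Finite.of_injective _ hinj'
  have hup : Nat.card (SekSuwa.AK R lam p h →ₐ[R] K) ≤ p := by
    refine (Nat.card_le_card_of_injective _ hinj').trans ?_
    rw [Nat.card_eq_fintype_card, Fintype.card_coe]
    exact hle
  have hlow : p ≤ Nat.card (SekSuwa.AK R lam p h →ₐ[R] K) := by
    have := Nat.card_le_card_of_injective (rootHom K hinj h hlam) (fun i j hij => root_injective hinj hlam
      (by rw [← rootHom_t hinj h hlam i, hij, rootHom_t]))
    rwa [Nat.card_eq_fintype_card, Fintype.card_fin] at this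
  exact le_antisymm hup hlow

include hinj hlam in
/-- The geometric points are jointly injective. -/
theorem joint_points (a : SekSuwa.AK R lam p h) (ha : ∀ f : SekSuwa.AK R lam p h →ₐ[R] K, f a = 0) :
    a = 0 := by
  classical
  haveI : Nontrivial R := ⟨⟨lam, 0, hlam⟩⟩
  let pb := powerBasis h hp.out.pos
  have hdim : pb.dim = p := powerBasis_dim h hp.out.pos
  have hgen : pb.gen = SekSuwa.AK.t := by
    simp [pb, powerBasis, equivRoot]
  let q : Polynomial K := ∑ j : Fin pb.dim, Polynomial.monomial (j : ℕ) (algebraMap R K (pb.basis.repr a j))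
  have hq : ∀ i, Polynomial.eval (root K p lam i) q = 0 := by
    intro i
    have h1 := ha (rootHom K hinj h hlam i)
    rw [← pb.basis.sum_repr a, map_sum] at h1
    simp only [map_smul, pb.coe_basis, map_pow, hgen, rootHom_t, Algebra.smul_def] at h1
    simpa [q, Polynomial.eval_finsetSum, rootHom_t] using h1
  have hq0 : q = 0 := by
    refine Polynomial.eq_zero_of_degree_lt_of_eval_index_eq_zero (Finset.univ : Finset (Fin p))
      ((root_injective hinj hlam).injOn) ?_ fun i _ => hq i
    rw [Finset.card_univ, Fintype.card_fin]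
    refine (Polynomial.degree_sum_le _ _).trans_lt ((Finset.sup_lt_iff (by exact WithBot.bot_lt_coe p)).mpr fun j _ => ?_)
    exact (Polynomial.degree_monomial_le _ _).trans_lt (by exact_mod_cast (j.2.trans_eq hdim))
  refine pb.basis.ext_elem fun j => ?_
  have h2 := congrArg (fun r => r.coeff (j : ℕ)) hq0
  simp only [q, Polynomial.finsetSum_coeff, Polynomial.coeff_monomial, Polynomial.coeff_zero] at h2
  rw [Finset.sum_eq_single j (fun b _ hb => if_neg fun h => hb (Fin.ext h)) (by simp), if_pos rfl] at h2
  rw [map_zero, Finsupp.zero_apply]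
  exact (map_eq_zero_iff _ hinj).mp h2

include hinj hlam in
/-- Geometric points separate the functions on the product. -/
theorem joint_points₂ {B : Type u} [CommRing B] [Algebra R B]
    (hB : ∀ b : B, (∀ f : B →ₐ[R] K, f b = 0) → b = 0) (z : B ⊗[R] SekSuwa.AK R lam p h)
    (hz : ∀ (f : B →ₐ[R] K) (g : SekSuwa.AK R lam p h →ₐ[R] K),
      Algebra.TensorProduct.lift f g (fun _ _ => Commute.all _ _) z = 0) : z = 0 := by
  classical
  haveI : Nontrivial R := ⟨⟨lam, 0, hlam⟩⟩
  let pb := powerBasis h hp.out.pos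
  have hdim : pb.dim = p := powerBasis_dim h hp.out.pos
  have hgen : pb.gen = SekSuwa.AK.t := by
    simp [pb, powerBasis, equivRoot]
  let x := fun j => TensorProduct.equivFinsuppOfBasisRight pb.basis z j
  have hx : ∑ j, x j ⊗ₜ[R] pb.basis j = z := by
    conv_rhs => rw [← (TensorProduct.equivFinsuppOfBasisRight pb.basis).symm_apply_apply z]
    rw [TensorProduct.equivFinsuppOfBasisRight_symm_apply, Finsupp.sum_fintype]
    simp
  have hx0 : ∀ j, x j = 0 := by
    intro j
    refine hB _ fun f => ?_
    let q : Polynomial K := ∑ j : Fin pb.dim, Polynomial.monomial (j : ℕ) (f (x j))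
    have hq : ∀ i, Polynomial.eval (root K p lam i) q = 0 := by
      intro i
      have h1 := hz f (rootHom K hinj h hlam i)
      rw [← hx, map_sum] at h1
      simp only [Algebra.TensorProduct.lift_tmul, pb.coe_basis, map_pow, hgen, rootHom_t] at h1
      simpa [q, Polynomial.eval_finsetSum, rootHom_t] using h1
    have hq0 : q = 0 := by
      refine Polynomial.eq_zero_of_degree_lt_of_eval_index_eq_zero (Finset.univ : Finset (Fin p))
        ((root_injective hinj hlam).injOn) ?_ fun i _ => hq i
      rw [Finset.card_univ, Fintype.card_fin]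
      refine (Polynomial.degree_sum_le _ _).trans_lt ((Finset.sup_lt_iff (by exact WithBot.bot_lt_coe p)).mpr fun j _ => ?_)
      exact (Polynomial.degree_monomial_le _ _).trans_lt (by exact_mod_cast (j.2.trans_eq hdim))
    have h2 := congrArg (fun r => r.coeff (j : ℕ)) hq0
    simp only [q, Polynomial.finsetSum_coeff, Polynomial.coeff_monomial, Polynomial.coeff_zero] at h2
    rwa [Finset.sum_eq_single j (fun b _ hb => if_neg fun h => hb (Fin.ext h)) (by simp), if_pos rfl] at h2
  rw [← hx]
  simp [hx0]

end Groth.Agent.SekK
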