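import Mathlib

/-!
# Independence of the powers of the coordinate on the special fibre
-/

universe u v
open TensorProduct Polynomial

namespace Groth.Agent.SekK

variable {k : Type u} [Field k] {B : Type v} [CommRing B] [Bialgebra k B] [Module.Finite k B]
  (p : ℕ) [Fact p.Prime] [CharP k p] {t : B} {c : k}

/-- In characteristic p the powers `1, t, …, t^(p-1)` of a non-zero coordinate with
`Δt = t⊗1 + 1⊗t + c·t⊗t` and `(1+ct)^p = 1` are independent. -/
theorem linearIndependent_pow_coord (ht : t ≠ 0)
    (hΔ : CoalgebraStruct.comul (R := k) t = t ⊗ₜ[k] 1 + 1 ⊗ₜ[k] t + c • (t ⊗ₜ[k] t))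
    (hε : CoalgebraStruct.counit (R := k) t = 0) (hu : (1 + c • t) ^ p = 1) :
    LinearIndependent k fun i : Fin p => t ^ (i : ℕ) := by
  classical
  have hint : IsIntegral k t := .of_finite k t
  rcases le_or_gt p (minpoly k t).natDegree with h | h
  · exact (linearIndependent_pow (S := B) t).comp (Fin.castLE h) (Fin.castLE_injective h)
  exfalso
  have hB : Nontrivial B := ⟨⟨t, 0, ht⟩⟩
  have hd0 : 0 < (minpoly k t).natDegree := minpoly.natDegree_pos hint
  set d := (minpoly k t).natDegree with hd
  have hd1 : d ≠ 1 := by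
    intro h1
    obtain ⟨a, ha⟩ := minpoly.natDegree_eq_one_iff.mp (hd ▸ h1)
    apply ht
    rw [← ha] at hε ⊢
    rw [Bialgebra.counit_algebraMap] at hε
    rw [hε, map_zero]
  have hli := linearIndependent_pow (S := B) (K := k) t
  rcases eq_or_ne c 0 with rfl | hc
  · -- additive case
    rw [zero_smul, add_zero] at hΔ
    obtain ⟨ψ, hψ⟩ := LinearMap.exists_extend
      ((Finsupp.lapply (⟨1, by omega⟩ : Fin d)).comp hli.repr)
    have hψi : ∀ i, (hi : i < d) → ψ (t ^ i) = if i = 1 then 1 else 0 := fun i hi => by
      have := LinearMap.congr_fun hψ ⟨t ^ i, Submodule.subset_span ⟨⟨i, hi⟩, rfl⟩⟩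
      simp only [LinearMap.comp_apply, Submodule.subtype_apply] at this
      rw [this, hli.repr_eq_single ⟨i, hi⟩ ⟨t ^ i, _⟩ rfl]
      simp [Finsupp.single_apply, Fin.ext_iff]
    let Φ : B ⊗[k] B →ₗ[k] B :=
      (TensorProduct.rid k B).toLinearMap ∘ₗ TensorProduct.map LinearMap.id ψ
    have hΦt : ∀ i j : ℕ, Φ ((t ^ i) ⊗ₜ[k] (t ^ j)) = ψ (t ^ j) • t ^ i := fun i j => by simp [Φ]
    have hΦ : ∀ n, n ≤ d → Φ ((t ⊗ₜ[k] 1 + 1 ⊗ₜ[k] t) ^ n) =
        (n : k) • t ^ (n - 1) + if n = d then ψ (t ^ d) • 1 else 0 := by
      intro n hn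
      have hterm : ∀ i ∈ Finset.range (n + 1),
          Φ ((t ⊗ₜ[k] (1 : B)) ^ i * ((1 : B) ⊗ₜ[k] t) ^ (n - i) * (n.choose i : B ⊗[k] B)) =
          (if i + 1 = n then (n : k) • t ^ i else 0) +
            (if n = d ∧ i = 0 then ψ (t ^ d) • 1 else 0) := by
        intro i hi
        rw [Finset.mem_range] at hi
        rw [Algebra.TensorProduct.tmul_pow, Algebra.TensorProduct.tmul_pow, one_pow, one_pow,
          Algebra.TensorProduct.tmul_mul_tmul, mul_one, one_mul, ← nsmul_eq_mul', map_nsmul, hΦt]
        by_cases h0 : n = d ∧ i = 0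
        · obtain ⟨rfl, rfl⟩ := h0
          rw [if_neg (by omega), if_pos ⟨rfl, rfl⟩, zero_add, Nat.choose_zero_right, one_nsmul]
          simp
        · rw [if_neg h0, add_zero, hψi (n - i) (by omega)]
          by_cases h1 : i + 1 = n
          · rw [if_pos (by omega), if_pos h1, one_smul, ← h1, Nat.choose_succ_self_right, Nat.cast_smul_eq_nsmul]
          · rw [if_neg (by omega), if_neg h1, zero_smul, nsmul_zero]
      rw [add_pow, map_sum, Finset.sum_congr rfl hterm, Finset.sum_add_distrib]
      congr 1
      · rcases n with _ | m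
        · simp
        · simp only [Nat.succ_eq_add_one, add_left_inj]
          rw [Finset.sum_ite_eq', if_pos (Finset.mem_range.mpr (by omega))]
          simp
      · by_cases hnd : n = d
        · simp [hnd]
        · simp [hnd]
    have hder : Φ (CoalgebraStruct.comul (R := k) (aeval t (minpoly k t))) = 0 := by
      rw [minpoly.aeval, map_zero, map_zero]
    rw [← Bialgebra.comulAlgHom_apply, ← Polynomial.aeval_algHom_apply,
      Bialgebra.comulAlgHom_apply, hΔ, Polynomial.aeval_eq_sum_range, map_sum] at hder
    rw [Finset.sum_congr rfl (fun n hn => by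
      rw [map_smul, hΦ n (by rw [Finset.mem_range] at hn; omega), smul_add])] at hder
    let q : k[X] := derivative (minpoly k t) + C (ψ (t ^ d))
    have hq : aeval t q = 0 := by
      rw [← hder, Finset.sum_add_distrib]
      simp only [q, map_add]
      congr 1
      · conv_lhs => rw [(minpoly k t).as_sum_range_C_mul_X_pow]
        rw [derivative_sum, map_sum]
        exact Finset.sum_congr rfl fun n _ => by
          rw [derivative_C_mul_X_pow, map_mul, aeval_C, map_pow, aeval_X, ← Algebra.smul_def, mul_smul]
      · rw [aeval_C, Algebra.algebraMap_eq_smul_one]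
        simp only [smul_ite, smul_zero, Finset.sum_ite_eq', Finset.mem_range]
        rw [show (minpoly k t).coeff d = 1 from (minpoly.monic hint).coeff_natDegree, one_smul,
          if_pos (Nat.lt_succ_self _)]
    have hqc : q.coeff (d - 1) = (d : k) := by
      simp only [q, coeff_add, coeff_derivative, coeff_C, show d - 1 + 1 = d by omega]
      rw [show (minpoly k t).coeff d = 1 from (minpoly.monic hint).coeff_natDegree, if_neg (by omega),
        one_mul, add_zero, ← Nat.cast_succ]
      congr 1
      omega
    have hdk : (d : k) ≠ 0 := fun h0 =>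
      absurd (Nat.le_of_dvd hd0 ((CharP.cast_eq_zero_iff k p d).mp h0)) (by omega)
    have hq0 : q ≠ 0 := fun h0 => hdk (by rw [← hqc, h0, coeff_zero])
    have hle := natDegree_le_of_dvd (minpoly.dvd k t hq) hq0
    have hlt : q.natDegree < d :=
      lt_of_le_of_lt (natDegree_add_le _ _) (max_lt (natDegree_derivative_lt (by omega)) (by simpa using hd0))
    omega
  · -- multiplicative case
    set u : B := 1 + c • t with hudef
    have hg : ∀ i : ℕ, IsGroupLikeElem k (u ^ i) := by
      have h1 : IsGroupLikeElem k u := by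
        refine ⟨?_, ?_⟩
        · simp [hudef, hε]
        · rw [hudef, map_add, map_smul, hΔ, Bialgebra.comul_one, Algebra.TensorProduct.one_def]
          simp only [add_tmul, tmul_add, smul_tmul', tmul_smul, smul_add]
          module
      intro i
      exact h1.pow
    have hu1 : u ≠ 1 := fun h0 => ht ((smul_eq_zero_iff_right hc).mp (by simpa [hudef] using h0))
    have hord : orderOf u = p := orderOf_eq_prime hu hu1
    have hinj : Function.Injective fun i : Fin p => u ^ (i : ℕ) := fun i j hij =>
      Fin.ext (pow_injOn_Iio_orderOf (by rw [hord]; exact i.2) (by rw [hord]; exact j.2) hij)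
    have hl : LinearIndependent k fun i : Fin p => u ^ (i : ℕ) :=
      (linearIndepOn_isGroupLikeElem (R := k) (A := B)).comp
        (fun i : Fin p => ⟨u ^ (i : ℕ), hg i⟩) (fun i j hij => hinj (congrArg Subtype.val hij))
    have hsub : ∀ i : Fin p, u ^ (i : ℕ) ∈ Subalgebra.toSubmodule (Algebra.adjoin k {t}) := fun i =>
      (Subalgebra.mem_toSubmodule _).mpr
        (pow_mem (add_mem (one_mem _) (Subalgebra.smul_mem _ (Algebra.self_mem_adjoin_singleton k t) c)) _)
    haveI : Module.Finite k (Algebra.adjoin k {t}) := Module.Finite.of_fg (hint.fg_adjoin_singleton)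
    have hcard : p ≤ Module.finrank k (Algebra.adjoin k {t}) := by
      have := (LinearIndependent.of_comp (Subalgebra.toSubmodule (Algebra.adjoin k {t})).subtype
        (v := fun i : Fin p => (⟨_, hsub i⟩ : Subalgebra.toSubmodule (Algebra.adjoin k {t}))) hl).fintype_card_le_finrank
      simpa using this
    rw [(Algebra.adjoin.powerBasis hint).finrank, Algebra.adjoin.powerBasis_dim] at hcard
    omega

end Groth.Agent.SekK
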