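import Mathlib

/-!
# Finite free Hopf algebras with constant generic fibre: characters give group-like elements
-/

universe u v w
open TensorProduct

noncomputable section

namespace Groth.Agent.SekK

variable {R : Type u} [CommRing R] [IsDomain R] {K : Type v} [Field K] [Algebra R K]
  [IsFractionRing R K] {A : Type w} [CommRing A] [HopfAlgebra R A]
  {M : Type} [Group M] [Fintype M]

variable (R K A M) in
/-- The data of the points of the generic fibre. -/
structure Pts where
  /-- The point of index `m`. -/
  χ : M → A →ₐ[R] K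
  χ_inj : Function.Injective χ
  joint : ∀ a : A, (∀ m, χ m a = 0) → a = 0
  χ_mul : ∀ m n, WithConv.toConv (χ m) * WithConv.toConv (χ n) = WithConv.toConv (χ (m * n))
  χ_one : WithConv.toConv (χ 1) = 1

namespace Pts

variable (P : Pts R K A M) {ι : Type*} [Fintype ι] (b : Module.Basis ι R A)

theorem χ_comul (m n : M) (a : A) :
    Algebra.TensorProduct.lift (P.χ m) (P.χ n) (fun _ _ => Commute.all _ _)
      (CoalgebraStruct.comul (R := R) a) = P.χ (m * n) a := by
  have h := congrArg (fun f : WithConv (A →ₐ[R] K) => f.ofConv a) (P.χ_mul m n)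
  refine Eq.trans ?_ h
  simp only [AlgHom.convMul_def, AlgHom.comp_apply]
  refine DFunLike.congr_fun (show Algebra.TensorProduct.lift (P.χ m) (P.χ n) (fun _ _ => Commute.all _ _) =
    (Algebra.TensorProduct.lmul' R).comp (Algebra.TensorProduct.map (P.χ m) (P.χ n)) from ?_) _
  refine Algebra.TensorProduct.ext' fun x y => ?_
  simp

theorem χ_counit (a : A) : P.χ 1 a = algebraMap R K (CoalgebraStruct.counit (R := R) a) := by
  have h := congrArg (fun f : WithConv (A →ₐ[R] K) => f.ofConv a) P.χ_one
  exact h

/-- The matrix of values of the points on a basis. -/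
def T : (ι → K) →ₗ[K] (M → K) where
  toFun c m := ∑ i, c i * P.χ m (b i)
  map_add' c d := by funext m; simp [add_mul, Finset.sum_add_distrib]
  map_smul' r c := by funext m; simp [Finset.mul_sum, mul_assoc]

theorem T_apply (c : ι → K) (m : M) : P.T b c m = ∑ i, c i * P.χ m (b i) := rfl

theorem χ_eq_sum (a : A) (m : M) : P.χ m a = ∑ i, algebraMap R K (b.repr a i) * P.χ m (b i) := by
  conv_lhs => rw [← b.sum_repr a, map_sum]
  simp [map_smul, Algebra.smul_def]

theorem T_injective : Function.Injective (P.T b) := by
  rw [← LinearMap.ker_eq_bot, LinearMap.ker_eq_bot']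
  intro c hc
  obtain ⟨s, hs⟩ := IsLocalization.exist_integer_multiples_of_finite (nonZeroDivisors R) c
  choose r hr using hs
  have ha : ∑ i, r i • b i = 0 := P.joint _ fun m => by
    have h2 : ∑ i, c i * P.χ m (b i) = 0 := congrFun hc m
    have h3 : ∀ i, P.χ m (r i • b i) = algebraMap R K s * (c i * P.χ m (b i)) := fun i => by
      rw [map_smul, Algebra.smul_def, hr i, Algebra.smul_def, mul_assoc]
    rw [map_sum, Finset.sum_congr rfl (fun i _ => h3 i), ← Finset.mul_sum, h2, mul_zero]
  funext i
  have hi : r i = 0 := Fintype.linearIndependent_iff.mp b.linearIndependent r ha i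
  have h4 := hr i
  rw [hi, map_zero, Algebra.smul_def, eq_comm, mul_eq_zero] at h4
  exact h4.resolve_left fun h => nonZeroDivisors.ne_zero s.2
    ((map_eq_zero_iff _ (IsFractionRing.injective R K)).mp h)

theorem χ_linearIndependent {α : M → K} (h : ∀ a, ∑ m, α m * P.χ m a = 0) : α = 0 := by
  have hinj : Function.Injective fun m => ((P.χ m : A →* K)) := fun m n hmn =>
    P.χ_inj (AlgHom.ext fun a => DFunLike.congr_fun hmn a)
  have hl := (linearIndependent_monoidHom A K).comp _ hinj
  funext m
  refine Fintype.linearIndependent_iff.mp hl α ?_ m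
  funext a
  simpa [Finset.sum_apply] using h a

/-- The values of a combination of points on the basis. -/
def T' : (M → K) →ₗ[K] (ι → K) where
  toFun α i := ∑ m, α m * P.χ m (b i)
  map_add' c d := by funext m; simp [add_mul, Finset.sum_add_distrib]
  map_smul' r c := by funext m; simp [Finset.mul_sum, mul_assoc]

theorem T'_injective : Function.Injective (P.T' b) := by
  rw [← LinearMap.ker_eq_bot, LinearMap.ker_eq_bot']
  intro α hα
  refine P.χ_linearIndependent fun a => ?_
  simp only [P.χ_eq_sum b a, Finset.mul_sum]
  rw [Finset.sum_comm]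
  refine Finset.sum_eq_zero fun i _ => ?_
  have hi : ∑ m, α m * P.χ m (b i) = 0 := congrFun hα i
  simp only [mul_left_comm _ (algebraMap R K (b.repr a i))]
  rw [← Finset.mul_sum, hi, mul_zero]

include P b in
theorem card_eq : Fintype.card ι = Fintype.card M := by
  apply le_antisymm
  · simpa using LinearMap.finrank_le_finrank_of_injective (P.T_injective b)
  · simpa using LinearMap.finrank_le_finrank_of_injective (P.T'_injective b)

theorem T_surjective : Function.Surjective (P.T b) :=
  (LinearMap.injective_iff_surjective_of_finrank_eq_finrank (by simp [P.card_eq b])).mp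
    (P.T_injective b)

theorem T'_surjective : Function.Surjective (P.T' b) :=
  (LinearMap.injective_iff_surjective_of_finrank_eq_finrank (by simp [P.card_eq b])).mp
    (P.T'_injective b)

include b in
theorem exists_coeff (f : A →ₗ[R] R) :
    ∃ α : M → K, ∀ a, algebraMap R K (f a) = ∑ m, α m * P.χ m a := by
  obtain ⟨α, hα⟩ := P.T'_surjective b fun i => algebraMap R K (f (b i))
  refine ⟨α, fun a => ?_⟩
  have hi : ∀ i, ∑ m, α m * P.χ m (b i) = algebraMap R K (f (b i)) := fun i => congrFun hα i
  simp only [P.χ_eq_sum b a, Finset.mul_sum]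
  rw [Finset.sum_comm]
  simp only [mul_left_comm _ (algebraMap R K (b.repr a _)), ← Finset.mul_sum, hi]
  conv_lhs => rw [← b.sum_repr a, map_sum, map_sum]
  simp [map_smul, smul_eq_mul]

/-- Convolution of functionals. -/
def conv (f g : A →ₗ[R] R) : A →ₗ[R] R :=
  LinearMap.mul' R R ∘ₗ TensorProduct.map f g ∘ₗ CoalgebraStruct.comul

theorem conv_eq {f g : A →ₗ[R] R} {α β : M → K}
    (hf : ∀ a, algebraMap R K (f a) = ∑ m, α m * P.χ m a)
    (hg : ∀ a, algebraMap R K (g a) = ∑ m, β m * P.χ m a) (a : A) :
    algebraMap R K (conv f g a) = ∑ m, ∑ n, α m * β n * P.χ (m * n) a := by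
  have key : ∀ z : A ⊗[R] A, algebraMap R K (LinearMap.mul' R R (TensorProduct.map f g z)) =
      ∑ m, ∑ n, α m * β n *
        Algebra.TensorProduct.lift (P.χ m) (P.χ n) (fun _ _ => Commute.all _ _) z := by
    intro z
    induction z using TensorProduct.induction_on with
    | zero => simp
    | add x y hx hy => simp only [map_add, hx, hy, mul_add, Finset.sum_add_distrib]
    | tmul x y =>
      simp only [TensorProduct.map_tmul, LinearMap.mul'_apply, map_mul, hf, hg,
        Algebra.TensorProduct.lift_tmul, Finset.sum_mul_sum]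
      exact Finset.sum_congr rfl fun m _ => Finset.sum_congr rfl fun n _ => by ring
  rw [show conv f g a = LinearMap.mul' R R (TensorProduct.map f g (CoalgebraStruct.comul a)) from rfl,
    key]
  simp only [P.χ_comul]

include b in
/-- A character of `M` with values in `R` is given by an element of `A`. -/
theorem exists_char [IsIntegrallyClosed R] (ω : M →* R) :
    ∃ u : A, ∀ m, P.χ m u = algebraMap R K (ω m) := by
  classical
  obtain ⟨c, hc⟩ := P.T_surjective b fun m => algebraMap R K (ω m)
  have hc' : ∀ m, ∑ i, c i * P.χ m (b i) = algebraMap R K (ω m) := fun m => congrFun hc m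
  haveI : Module.Finite R A := .of_basis b
  haveI : Module.Free R A := .of_basis b
  let L : (A →ₗ[R] R) →ₗ[R] K :=
    { toFun := fun f => ∑ i, c i * algebraMap R K (f (b i))
      map_add' := fun f g => by simp [mul_add, Finset.sum_add_distrib]
      map_smul' := fun r f => by simp [Finset.mul_sum, Algebra.smul_def, mul_left_comm] }
  have hL : ∀ (f : A →ₗ[R] R) (α : M → K), (∀ a, algebraMap R K (f a) = ∑ m, α m * P.χ m a) →
      L f = ∑ m, α m * algebraMap R K (ω m) := by
    intro f α hf
    show ∑ i, c i * algebraMap R K (f (b i)) = _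
    simp only [hf, ← hc', Finset.mul_sum]
    rw [Finset.sum_comm]
    simp only [mul_left_comm]
  have hmul : ∀ f g, L (conv f g) = L f * L g := by
    intro f g
    obtain ⟨α, hα⟩ := P.exists_coeff b f
    obtain ⟨β, hβ⟩ := P.exists_coeff b g
    rw [hL f α hα, hL g β hβ, Finset.sum_mul_sum]
    show ∑ i, c i * algebraMap R K (conv f g (b i)) = _
    simp only [P.conv_eq hα hβ, Finset.mul_sum]
    rw [Finset.sum_comm]
    refine Finset.sum_congr rfl fun m _ => ?_
    rw [Finset.sum_comm]
    refine Finset.sum_congr rfl fun n _ => ?_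
    rw [show α m * algebraMap R K (ω m) * (β n * algebraMap R K (ω n)) =
      α m * β n * algebraMap R K (ω (m * n)) by rw [map_mul, map_mul]; ring, ← hc', Finset.mul_sum]
    exact Finset.sum_congr rfl fun i _ => by ring
  have hone : L CoalgebraStruct.counit = 1 := by
    have h1 := hc' 1
    rw [map_one, map_one] at h1
    rw [← h1]
    show ∑ i, c i * algebraMap R K (CoalgebraStruct.counit (b i)) = _
    simp only [P.χ_counit]
  have hint : ∀ f, IsIntegral R (L f) := by
    intro f
    refine isIntegral_of_smul_mem_submodule (LinearMap.range L) ?_ ?_ (L f) ?_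
    · intro h
      have h' : (1 : K) ∈ LinearMap.range L := ⟨_, hone⟩
      rw [h] at h'
      exact one_ne_zero ((Submodule.mem_bot R).mp h')
    · rw [← Submodule.map_top]
      exact Submodule.FG.map _ Module.Finite.fg_top
    · rintro _ ⟨g, rfl⟩
      exact ⟨conv f g, hmul f g⟩
  have hcR : ∀ j, ∃ r, algebraMap R K r = c j := by
    intro j
    have hj : L (b.coord j) = c j := by
      show ∑ i, c i * algebraMap R K (b.coord j (b i)) = c j
      simp [Finsupp.single_apply, apply_ite (algebraMap R K)]
    rw [← hj]
    exact IsIntegrallyClosed.isIntegral_iff.mp (hint _)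
  choose r hr using hcR
  refine ⟨∑ i, r i • b i, fun m => ?_⟩
  rw [map_sum, ← hc']
  simp [map_smul, Algebra.smul_def, hr]

include b in
theorem joint₂ (z : A ⊗[R] A)
    (hz : ∀ m n, Algebra.TensorProduct.lift (P.χ m) (P.χ n) (fun _ _ => Commute.all _ _) z = 0) :
    z = 0 := by
  classical
  obtain ⟨x, rfl⟩ : ∃ x : ι → A, ∑ i, b i ⊗ₜ[R] x i = z := by
    refine ⟨fun i => TensorProduct.equivFinsuppOfBasisLeft b z i, ?_⟩
    conv_rhs => rw [← (TensorProduct.equivFinsuppOfBasisLeft b).symm_apply_apply z]
    rw [TensorProduct.equivFinsuppOfBasisLeft_symm_apply, Finsupp.sum_fintype]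
    simp
  refine Finset.sum_eq_zero fun i _ => ?_
  have hx : x i = 0 := P.joint _ fun n => by
    have h : P.T b (fun j => P.χ n (x j)) = 0 := by
      funext m
      have h1 := hz m n
      simp only [map_sum, Algebra.TensorProduct.lift_tmul] at h1
      rw [T_apply, Pi.zero_apply, ← h1]
      exact Finset.sum_congr rfl fun j _ => mul_comm _ _
    exact congrFun ((map_eq_zero_iff _ (P.T_injective b)).mp h) i
  rw [hx, TensorProduct.tmul_zero]

end Pts

end Groth.Agent.SekK
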