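import Groth.Agent.SekK.Basic
import Groth.Agent.SekK.Unit
import Groth.Agent.SekK.Fibre
import Mathlib

/-!
# Finite free Hopf algebras of rank p with constant generic fibre
-/

universe u v
open TensorProduct Polynomial

noncomputable section

namespace Groth.Agent.SekK

section DivCond
variable {R : Type u} [CommRing R] [IsDomain R] {p : ℕ} [hp : Fact p.Prime] {ζ : R}

theorem pow_dvd_prime (hζ : IsPrimitiveRoot ζ p) : (ζ - 1) ^ (p - 1) ∣ (p : R) := by
  have h1 := eval_one_cyclotomic_prime (R := R) (p := p)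
  rw [cyclotomic_eq_prod_X_sub_primitiveRoots hζ, eval_prod] at h1
  have h2 : ∏ _μ ∈ primitiveRoots p R, (ζ - 1) ∣ ∏ μ ∈ primitiveRoots p R, (X - C μ).eval 1 := by
    refine Finset.prod_dvd_prod_of_dvd _ _ fun μ hμ => ?_
    obtain ⟨i, -, -, rfl⟩ := hζ.isPrimitiveRoot_iff.mp (isPrimitiveRoot_of_mem_primitiveRoots hμ)
    simp only [eval_sub, eval_X, eval_C]
    exact (dvd_sub_comm).mp (sub_one_dvd_pow_sub_one ζ i)
  rw [h1, Finset.prod_const, hζ.card_primitiveRoots, Nat.totient_prime hp.out] at h2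
  exact h2

theorem divCond_of_dvd (hζ : IsPrimitiveRoot ζ p) {lam : R} (hlam : lam ≠ 0) (hd : lam ∣ ζ - 1) :
    SekSuwa.DivCond lam p := by
  refine ⟨mem_nonZeroDivisors_of_ne_zero hlam, ?_⟩
  have hdiv : C (lam ^ p) ∣ (1 + C lam * X) ^ p - 1 := by
    rw [C_dvd_iff_dvd_coeff]
    intro k
    rw [coeff_sub, coeff_binom, coeff_one]
    rcases Nat.eq_zero_or_pos k with rfl | hk
    · simp
    rw [if_neg (by omega), sub_zero]
    rcases lt_trichotomy k p with hkp | rfl | hkp
    · have h1 : lam ^ (p - k) ∣ (p.choose k : R) :=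
        (pow_dvd_pow lam (by omega : p - k ≤ p - 1)).trans
          (((pow_dvd_pow_of_dvd hd _).trans (pow_dvd_prime hζ)).trans
            (Nat.cast_dvd_cast (hp.out.dvd_choose_self (by omega) hkp)))
      obtain ⟨c, hc⟩ := h1
      exact ⟨c, by rw [hc, mul_right_comm, ← pow_add, Nat.sub_add_cancel hkp.le]⟩
    · simp
    · simp [Nat.choose_eq_zero_of_lt hkp]
  obtain ⟨P, hP⟩ := hdiv
  exact ⟨P, hP.symm⟩

end DivCond

variable {R : Type u} [CommRing R] [IsDomain R] [IsDiscreteValuationRing R]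
  {K : Type v} [Field K] [Algebra R K] [IsFractionRing R K] {A : Type u} [CommRing A] [HopfAlgebra R A]
  [Module.Finite R A] [Module.Free R A]

theorem exists_bialgHom_AK [CharZero R] (p : ℕ) [hp : Fact p.Prime]
    [CharP (IsLocalRing.ResidueField R) p] {ζ : R} (hζ : IsPrimitiveRoot ζ p)
    (P : Pts R K A (Multiplicative (ZMod p))) :
    ∃ (lam : R) (h : SekSuwa.DivCond lam p), lam ≠ 0 ∧
      ∃ φ : SekSuwa.AK R lam p h →ₐc[R] A, Function.Bijective φ := by
  classical
  let b := Module.Free.chooseBasis R A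
  have hcard : Fintype.card (Module.Free.ChooseBasisIndex R A) = p := by
    rw [P.card_eq b]; simp
  have hrank : Module.finrank R A = p := by rw [Module.finrank_eq_card_basis b, hcard]
  haveI : Nontrivial A := Module.nontrivial_of_finrank_pos (R := R) (by rw [hrank]; exact hp.out.pos)
  have hinj := IsFractionRing.injective R K
  let ω : Multiplicative (ZMod p) →* R :=
    { toFun := fun m => ζ ^ m.toAdd.val
      map_one' := by simp
      map_mul' := fun m n => by
        rw [toAdd_mul, ZMod.val_add, ← pow_add]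
        exact (pow_eq_pow_mod _ hζ.pow_eq_one).symm }
  obtain ⟨u, hu⟩ := P.exists_char b ω
  have hup : u ^ p = 1 := sub_eq_zero.mp (P.joint _ fun m => by
    rw [map_sub, map_pow, map_one, hu, ← map_pow, show (ω m) ^ p = 1 by
      show (ζ ^ _) ^ p = 1
      rw [← pow_mul, mul_comm, pow_mul, hζ.pow_eq_one, one_pow], map_one, sub_self])
  have hεu : CoalgebraStruct.counit (R := R) u = 1 :=
    hinj (by rw [← P.χ_counit, hu, map_one])
  have hΔu : CoalgebraStruct.comul (R := R) u = u ⊗ₜ[R] u :=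
    sub_eq_zero.mp (P.joint₂ b _ fun m n => by
      rw [map_sub, P.χ_comul, Algebra.TensorProduct.lift_tmul, hu, hu, hu, map_mul, map_mul, sub_self])
  -- the value of u at the generator
  let g : Multiplicative (ZMod p) := Multiplicative.ofAdd 1
  have hg : ω g = ζ := by
    show ζ ^ (1 : ZMod p).val = ζ
    rw [ZMod.val_one, pow_one]
  obtain ⟨π, hπ⟩ := IsDiscreteValuationRing.exists_irreducible R
  have hζ1 : ζ - 1 ≠ 0 := sub_ne_zero.mpr (hζ.ne_one hp.out.one_lt)
  obtain ⟨k, hk⟩ := IsDiscreteValuationRing.associated_pow_irreducible hζ1 hπ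
  have hbound : ∀ n s, u - 1 = π ^ n • s → π ^ n ∣ ζ - 1 ∧ n ≤ k := by
    intro n s hs
    have hint : IsIntegral R (P.χ g s) := (IsIntegral.of_finite R s).map (P.χ g)
    obtain ⟨r, hr⟩ := IsIntegrallyClosed.isIntegral_iff.mp hint
    have h1 : ζ - 1 = π ^ n * r := hinj (by
      have h2 := congrArg (P.χ g) hs
      rw [map_sub, map_one, map_smul, hu, hg, Algebra.smul_def] at h2
      rw [map_sub, map_one, map_mul, h2, hr])
    refine ⟨⟨r, h1⟩, ?_⟩
    exact (pow_dvd_pow_iff hπ.ne_zero hπ.not_isUnit).mp (hk.dvd_iff_dvd_right.mp ⟨r, h1⟩)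
  let S : ℕ → Prop := fun n => ∃ s, u - 1 = π ^ n • s
  have hS0 : S 0 := ⟨u - 1, by simp⟩
  let n₀ := Nat.findGreatest S k
  obtain ⟨t, ht⟩ : S n₀ := Nat.findGreatest_spec (Nat.zero_le k) hS0
  have htπ : ∀ s, t ≠ π • s := by
    intro s hs
    have h1 : S (n₀ + 1) := ⟨s, by rw [ht, hs, smul_smul, pow_succ]⟩
    obtain ⟨s', hs'⟩ := h1
    have := Nat.le_findGreatest (P := S) (hbound _ _ hs').2 ⟨s', hs'⟩
    change n₀ + 1 ≤ n₀ at this
    omega
  set lam := π ^ n₀ with hlamdef
  have hlam : lam ≠ 0 := pow_ne_zero _ hπ.ne_zero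
  have h : SekSuwa.DivCond lam p := divCond_of_dvd hζ hlam (hbound _ _ ht).1
  refine ⟨lam, h, hlam, ?_⟩
  have hu' : 1 + lam • t = u := by rw [← ht]; abel
  have hpos := hp.out.pos
  -- the algebra map
  have hker : Polynomial.aeval t (SekSuwa.psiPoly lam p h) = 0 := by
    have h1 := SekSuwa.aeval_psiPoly h t
    rw [← Algebra.smul_def, ← Algebra.smul_def, hu', hup, sub_self] at h1
    exact (smul_eq_zero_iff_right (pow_ne_zero _ hlam)).mp h1
  have hw : (1 + lam • t) * u ^ (p - 1) = 1 := by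
    rw [hu', ← pow_succ', Nat.sub_add_cancel hpos, hup]
  let φ₀ : SekSuwa.AK R lam p h →ₐ[R] A :=
    Ideal.Quotient.liftₐ (SekSuwa.kerIdeal lam p h) (SekSuwa.A.lift R lam t (u ^ (p - 1)) hw) (by
      intro a ha
      obtain ⟨c, rfl⟩ := Ideal.mem_span_singleton'.mp ha
      rw [map_mul, SekSuwa.kerGen, ← Polynomial.aeval_algHom_apply, SekSuwa.A.lift_t, hker, mul_zero])
  have hφt : φ₀ SekSuwa.AK.t = t := SekSuwa.A.lift_t _ _ hw
  have hφi : φ₀ SekSuwa.AK.inv = u ^ (p - 1) := SekSuwa.A.lift_inv _ _ hw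
  have hεt : CoalgebraStruct.counit (R := R) t = 0 := by
    have h1 := congrArg (CoalgebraStruct.counit (R := R)) ht
    rw [map_sub, Bialgebra.counit_one, hεu, sub_self, map_smul] at h1
    exact (smul_eq_zero.mp h1.symm).resolve_left hlam
  haveI : Module.Free R (A ⊗[R] A) := inferInstance
  have hΔt : CoalgebraStruct.comul (R := R) t =
      t ⊗ₜ[R] 1 + 1 ⊗ₜ[R] t + lam • (t ⊗ₜ[R] t) := by
    refine smul_right_injective (A ⊗[R] A) hlam ?_
    show lam • CoalgebraStruct.comul (R := R) t = lam • _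
    rw [← map_smul, ← ht, map_sub, Bialgebra.comul_one, hΔu, ← hu', Algebra.TensorProduct.one_def]
    simp only [add_tmul, tmul_add, smul_tmul', tmul_smul, smul_add, smul_smul]
    module
  have hgrp : IsGroupLikeElem R (u ^ (p - 1)) := (IsGroupLikeElem.mk hεu hΔu).pow
  let φ : SekSuwa.AK R lam p h →ₐc[R] A := BialgHom.ofAlgHom φ₀
    (by
      apply SekSuwa.AK.algHom_ext
      · rw [AlgHom.comp_apply, hφt]
        show CoalgebraStruct.counit (R := R) t = CoalgebraStruct.counit (R := R) (SekSuwa.AK.t : SekSuwa.AK R lam p h)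
        rw [hεt, SekSuwa.AK.counit_t]
      · rw [AlgHom.comp_apply, hφi]
        show CoalgebraStruct.counit (R := R) (u ^ (p - 1)) = CoalgebraStruct.counit (R := R) (SekSuwa.AK.inv : SekSuwa.AK R lam p h)
        rw [hgrp.counit_eq_one, SekSuwa.AK.counit_inv])
    (by
      apply SekSuwa.AK.algHom_ext
      · rw [AlgHom.comp_apply, AlgHom.comp_apply, hφt]
        show Algebra.TensorProduct.map φ₀ φ₀ (CoalgebraStruct.comul (R := R) (SekSuwa.AK.t : SekSuwa.AK R lam p h)) =
          CoalgebraStruct.comul (R := R) t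
        rw [SekSuwa.AK.comul_t, hΔt, map_add, map_add, map_smul, Algebra.TensorProduct.map_tmul,
          Algebra.TensorProduct.map_tmul, Algebra.TensorProduct.map_tmul, map_one, hφt]
      · rw [AlgHom.comp_apply, AlgHom.comp_apply, hφi]
        show Algebra.TensorProduct.map φ₀ φ₀ (CoalgebraStruct.comul (R := R) (SekSuwa.AK.inv : SekSuwa.AK R lam p h)) =
          CoalgebraStruct.comul (R := R) (u ^ (p - 1))
        rw [SekSuwa.AK.comul_inv, hgrp.comul_eq_tmul_self, Algebra.TensorProduct.map_tmul, hφi])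
  refine ⟨φ, ?_⟩
  -- the special fibre
  let 𝕜 := IsLocalRing.ResidueField R
  let B := 𝕜 ⊗[R] A
  have htmul : ∀ (a : R) (x : A), (1 : 𝕜) ⊗ₜ[R] (a • x) = algebraMap R 𝕜 a • ((1 : 𝕜) ⊗ₜ[R] x) := by
    intro a x
    rw [algebraMap_smul, tmul_smul]
  have htB : (1 : 𝕜) ⊗ₜ[R] t ≠ 0 := by
    intro h0
    have hc : ∀ i, π ∣ b.repr t i := fun i => by
      have h1 := congrArg (fun z => (b.baseChange 𝕜).repr z i) h0
      simp only [Module.Basis.baseChange_repr_tmul, map_zero, Finsupp.zero_apply] at h1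
      rw [← Algebra.algebraMap_eq_smul_one] at h1
      rw [← Ideal.mem_span_singleton, ← hπ.maximalIdeal_eq]
      exact (IsLocalRing.residue_eq_zero_iff _).mp h1
    choose r hr using hc
    exact htπ (∑ i, r i • b i) (by
      conv_lhs => rw [← b.sum_repr t]
      simp [hr, Finset.smul_sum, mul_smul])
  have hεB : CoalgebraStruct.counit (R := 𝕜) ((1 : 𝕜) ⊗ₜ[R] t) = 0 := by
    simp [hεt]
  have hΔB : CoalgebraStruct.comul (R := 𝕜) ((1 : 𝕜) ⊗ₜ[R] t) =
      ((1 : 𝕜) ⊗ₜ[R] t) ⊗ₜ[𝕜] (1 : B) + (1 : B) ⊗ₜ[𝕜] ((1 : 𝕜) ⊗ₜ[R] t) +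
        algebraMap R 𝕜 lam • (((1 : 𝕜) ⊗ₜ[R] t) ⊗ₜ[𝕜] ((1 : 𝕜) ⊗ₜ[R] t)) := by
    rw [TensorProduct.comul_tmul, Bialgebra.comul_one, hΔt, Algebra.TensorProduct.one_def]
    simp only [tmul_add, tmul_smul, ← algebraMap_smul 𝕜 lam, map_add, map_smul,
      AlgebraTensorModule.tensorTensorTensorComm_tmul]
    rfl
  have huB : (1 + algebraMap R 𝕜 lam • ((1 : 𝕜) ⊗ₜ[R] t)) ^ p = 1 := by
    rw [← htmul, Algebra.TensorProduct.one_def, ← tmul_add, hu', Algebra.TensorProduct.tmul_pow,
      one_pow, hup]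
  have hli := linearIndependent_pow_coord p htB hΔB hεB huB
  have hrankB : Fintype.card (Fin p) = Module.finrank 𝕜 B := by
    rw [Fintype.card_fin, Module.finrank_baseChange, hrank]
  haveI : Nonempty (Fin p) := ⟨⟨0, hpos⟩⟩
  let bB := basisOfLinearIndependentOfCardEqFinrank hli hrankB
  have hspan : Submodule.span R (Set.range fun i : Fin p => t ^ (i : ℕ)) = ⊤ :=
    IsLocalRing.span_eq_top_of_tmul_eq_basis _ bB fun i => by
      simp [bB, Algebra.TensorProduct.tmul_pow]
  let pb := powerBasis h hpos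
  have hdim : pb.dim = p := powerBasis_dim h hpos
  have hsurj : Function.Surjective φ := by
    intro a
    have ha : a ∈ LinearMap.range φ₀.toLinearMap := by
      have hsub : Submodule.span R (Set.range fun i : Fin p => t ^ (i : ℕ)) ≤ LinearMap.range φ₀.toLinearMap := by
        rw [Submodule.span_le]
        rintro _ ⟨i, rfl⟩
        exact ⟨SekSuwa.AK.t ^ (i : ℕ), by simp [hφt]⟩
      exact hsub (hspan ▸ Submodule.mem_top)
    exact ha
  refine ⟨?_, hsurj⟩
  let eq₁ : SekSuwa.AK R lam p h ≃ₗ[R] A := pb.basis.equiv b (Fintype.equivOfCardEq (by simp [hdim, hcard]))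
  haveI : Module.Finite R (SekSuwa.AK R lam p h) := .of_basis pb.basis
  have hcomp : Function.Injective (φ₀.toLinearMap ∘ₗ eq₁.symm.toLinearMap) :=
    OrzechProperty.injective_of_surjective_endomorphism _ (hsurj.comp eq₁.symm.surjective)
  intro x y hxy
  have := @hcomp (eq₁ x) (eq₁ y) (by
    show φ₀ (eq₁.symm (eq₁ x)) = φ₀ (eq₁.symm (eq₁ y))
    rw [LinearEquiv.symm_apply_apply, LinearEquiv.symm_apply_apply]
    exact hxy)
  exact eq₁.injective this

end Groth.Agent.SekK
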