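import Groth.Agent.SekK.Split
import Groth.Agent.SekK.Classify
import Mathlib

/-!
# Groups of order p² with constant generic fibre are extensions of rank p groups
-/

universe u
open TensorProduct

noncomputable section

namespace Groth.Agent.SekK

variable {R : Type u} [CommRing R] [IsDomain R] [IsDiscreteValuationRing R] [CharZero R]
  {K : Type u} [Field K] [Algebra R K] [IsFractionRing R K] {A : Type u} [CommRing A] [HopfAlgebra R A]
  [Module.Finite R A]

theorem exists_ext_AK (p : ℕ) [hp : Fact p.Prime] [CharP (IsLocalRing.ResidueField R) p]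
    {ζ : R} (hζ : IsPrimitiveRoot ζ p) {M : Type} [CommGroup M] [Fintype M] (P : Pts R K A M)
    (hM : Nat.card M = p ^ 2) :
    ∃ (lam mu : R) (h₁ : SekSuwa.DivCond lam p) (h₂ : SekSuwa.DivCond mu p)
      (f : SekSuwa.AK R mu p h₂ →ₐc[R] A) (g : A →ₐc[R] SekSuwa.AK R lam p h₁),
      lam ≠ 0 ∧ mu ≠ 0 ∧ Function.Surjective g ∧
      (f : SekSuwa.AK R mu p h₂ →+* A).FaithfullyFlat ∧
      (f : SekSuwa.AK R mu p h₂ →+* A).FinitePresentation ∧
      g.comp f = (Bialgebra.unitBialgHom R (SekSuwa.AK R lam p h₁)).comp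
        (Bialgebra.counitBialgHom R (SekSuwa.AK R mu p h₂)) ∧
      ∀ a : A, g a = 0 → a ∈ Ideal.span (f '' {b | CoalgebraStruct.counit (R := R) b = 0}) := by
  classical
  haveI := P.free
  obtain ⟨z, hz⟩ := exists_prime_orderOf_dvd_card' (G := M) p (hM ▸ dvd_pow_self p two_ne_zero)
  let H := Subgroup.zpowers z
  have hH : Nat.card H = p := by rw [Nat.card_zpowers, hz]
  have hQ : Nat.card (M ⧸ H) = p := by
    have h := Subgroup.card_eq_card_quotient_mul_card_subgroup H
    rw [hM, hH, pow_two] at h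
    exact (Nat.eq_of_mul_eq_mul_right hp.out.pos h).symm
  have hZ : Nat.card (Multiplicative (ZMod p)) = p := by
    rw [Nat.card_eq_fintype_card, Fintype.card_multiplicative, ZMod.card]
  letI := P.quotHopf H
  haveI := FinQuot.inv_flat (R := R) (P.ker H)
  haveI : Module.Finite R (FinQuot.inv R (P.ker H)) := FinQuot.inv_finite_base (R := R) (P.ker H)
  haveI : Module.Free R (FinQuot.inv R (P.ker H)) := Module.free_of_flat_of_isLocalRing
  obtain ⟨lam, h₁, hlam, φ₁, hφ₁⟩ := exists_bialgHom_AK p hζ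
    ((P.sub H).congr (mulEquivOfPrimeCardEq hZ hH))
  obtain ⟨mu, h₂, hmu, φ₂, hφ₂⟩ := exists_bialgHom_AK p hζ
    ((P.quot H).congr (mulEquivOfPrimeCardEq hZ hQ))
  let e₁ := BialgEquiv.ofBijective φ₁ hφ₁
  let g : A →ₐc[R] SekSuwa.AK R lam p h₁ :=
    (e₁.symm : (A ⧸ P.ker H) →ₐc[R] SekSuwa.AK R lam p h₁).comp (FinQuot.projC (R := R) (P.ker H))
  let f : SekSuwa.AK R mu p h₂ →ₐc[R] A := (P.quotHom H).comp φ₂
  have hg : ∀ a, φ₁ (g a) = Ideal.Quotient.mk (P.ker H) a := fun a =>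
    e₁.apply_symm_apply _
  refine ⟨lam, mu, h₁, h₂, f, g, hlam, hmu, ?_, ?_, ?_, ?_, ?_⟩
  · exact e₁.symm.surjective.comp Ideal.Quotient.mk_surjective
  · exact (RingHom.FaithfullyFlat.stableUnderComposition (φ₂ : SekSuwa.AK R mu p h₂ →+* FinQuot.inv R (P.ker H)) (algebraMap (FinQuot.inv R (P.ker H)) A)
      (RingHom.FaithfullyFlat.of_bijective (f := (φ₂ : SekSuwa.AK R mu p h₂ →+* FinQuot.inv R (P.ker H))) hφ₂)
      (RingHom.faithfullyFlat_algebraMap_iff.mpr (FinQuot.inv_faithfullyFlat (R := R) (P.ker H))))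
  · exact RingHom.FinitePresentation.comp
      (RingHom.finitePresentation_algebraMap.mpr (FinQuot.quotient (R := R) (P.ker H)).2.2.1)
      (RingHom.FinitePresentation.of_bijective (f := (φ₂ : SekSuwa.AK R mu p h₂ →+* FinQuot.inv R (P.ker H))) hφ₂)
  · refine DFunLike.ext _ _ fun x => hφ₁.1 ?_
    show φ₁ (g (f x)) = φ₁ (algebraMap R _ (CoalgebraStruct.counit (R := R) x))
    rw [hg, AlgHomClass.commutes φ₁, ← Ideal.Quotient.mk_algebraMap, Ideal.Quotient.mk_eq_mk_iff_sub_mem]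
    refine FinQuot.augIdealSpan_inv_le (k := R) (I := P.ker H) (Ideal.subset_span ⟨?_, ?_⟩)
    · exact sub_mem (φ₂ x).2 (Subalgebra.algebraMap_mem _ _)
    · rw [map_sub, Bialgebra.counit_algebraMap]
      exact sub_eq_zero.mpr (CoalgHomClass.counit_comp_apply f x)
  · intro a ha
    have ha' : a ∈ P.ker H := Ideal.Quotient.eq_zero_iff_mem.mp (by rw [← hg, ha, map_zero])
    rw [← FinQuot.augIdealSpan_inv (k := R) (I := P.ker H)] at ha'
    refine (Ideal.span_le.mpr ?_) ha'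
    rintro b ⟨hb, hb0⟩
    obtain ⟨x, hx⟩ := hφ₂.2 ⟨b, hb⟩
    have hfx : f x = b := congrArg Subtype.val hx
    refine Ideal.subset_span ⟨x, ?_, hfx⟩
    show CoalgebraStruct.counit (R := R) x = 0
    rw [← CoalgHomClass.counit_comp_apply f x, hfx, hb0]

end Groth.Agent.SekK
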