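import Groth.Prelude.Def_SekSuwa2
import Mathlib

/-!
# The polynomial P_{λ,N} is monic and AK R λ N is free of rank N
-/

universe u
open Polynomial

namespace Groth.Agent.SekK

variable {R : Type u} [CommRing R] {lam : R} {N : ℕ}

theorem coeff_binom (k : ℕ) :
    ((1 + C lam * X) ^ N : R[X]).coeff k = (N.choose k : R) * lam ^ k := by
  rw [show ((1 + C lam * X) ^ N : R[X]) = ((1 + X) ^ N).comp (C lam * X) by simp,
    comp_C_mul_X_coeff, coeff_one_add_X_pow]

theorem psiPoly_coeff (h : SekSuwa.DivCond lam N) {k : ℕ} (hk : k ≠ 0) :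
    lam ^ N * (SekSuwa.psiPoly lam N h).coeff k = (N.choose k : R) * lam ^ k := by
  have := congrArg (fun P : R[X] => P.coeff k) (SekSuwa.psiPoly_spec h)
  simp only [coeff_C_mul, coeff_sub, coeff_binom, coeff_one] at this
  simpa [hk] using this

theorem psiPoly_monic (h : SekSuwa.DivCond lam N) (hN : 0 < N) :
    (SekSuwa.psiPoly lam N h).natDegree ≤ N ∧ (SekSuwa.psiPoly lam N h).coeff N = 1 := by
  constructor
  · rw [natDegree_le_iff_coeff_eq_zero]
    intro k hk
    refine mem_nonZeroDivisors_iff.mp h.pow_nzd |>.1 _ ?_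
    rw [psiPoly_coeff h (by omega), Nat.choose_eq_zero_of_lt hk]
    simp
  · refine SekSuwa.cancel_nzd h.pow_nzd ?_
    rw [psiPoly_coeff h (by omega), Nat.choose_self]
    simp

theorem monic (h : SekSuwa.DivCond lam N) (hN : 0 < N) : (SekSuwa.psiPoly lam N h).Monic :=
  monic_of_natDegree_le_of_coeff_eq_one N (psiPoly_monic h hN).1 (psiPoly_monic h hN).2

theorem natDegree_eq [Nontrivial R] (h : SekSuwa.DivCond lam N) (hN : 0 < N) :
    (SekSuwa.psiPoly lam N h).natDegree = N :=
  natDegree_eq_of_le_of_coeff_ne_zero (psiPoly_monic h hN).1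
    (by rw [(psiPoly_monic h hN).2]; exact one_ne_zero)

variable (lam N) in
theorem one_add_root_pow (h : SekSuwa.DivCond lam N) :
    (1 + lam • AdjoinRoot.root (SekSuwa.psiPoly lam N h)) ^ N = 1 := by
  have := SekSuwa.aeval_psiPoly h (AdjoinRoot.root (SekSuwa.psiPoly lam N h))
  rw [AdjoinRoot.aeval_eq, AdjoinRoot.mk_self, mul_zero] at this
  rw [Algebra.smul_def]
  exact (sub_eq_zero.mp this.symm)

/-- The inverse map `AK → R[X]/(P)`. -/
noncomputable def toRoot (h : SekSuwa.DivCond lam N) (hN : 0 < N) :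
    SekSuwa.AK R lam N h →ₐ[R] AdjoinRoot (SekSuwa.psiPoly lam N h) :=
  Ideal.Quotient.liftₐ (SekSuwa.kerIdeal lam N h)
    (SekSuwa.A.lift R lam (AdjoinRoot.root _)
      ((1 + lam • AdjoinRoot.root (SekSuwa.psiPoly lam N h)) ^ (N - 1))
      (by rw [← pow_succ', Nat.sub_add_cancel hN]; exact one_add_root_pow lam N h))
    (by
      intro a ha
      obtain ⟨c, rfl⟩ := Ideal.mem_span_singleton'.mp ha
      rw [map_mul, SekSuwa.kerGen, ← Polynomial.aeval_algHom_apply, SekSuwa.A.lift_t,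
        AdjoinRoot.aeval_eq, AdjoinRoot.mk_self, mul_zero])

theorem toRoot_t (h : SekSuwa.DivCond lam N) (hN : 0 < N) :
    toRoot h hN SekSuwa.AK.t = AdjoinRoot.root _ := by
  exact SekSuwa.A.lift_t _ _ (by rw [← pow_succ', Nat.sub_add_cancel hN]; exact one_add_root_pow lam N h)

theorem toRoot_inv (h : SekSuwa.DivCond lam N) (hN : 0 < N) :
    toRoot h hN SekSuwa.AK.inv =
      (1 + lam • AdjoinRoot.root (SekSuwa.psiPoly lam N h)) ^ (N - 1) := by
  exact SekSuwa.A.lift_inv _ _ (by rw [← pow_succ', Nat.sub_add_cancel hN]; exact one_add_root_pow lam N h)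

theorem u_mul_inv (h : SekSuwa.DivCond lam N) :
    (1 + lam • (SekSuwa.AK.t : SekSuwa.AK R lam N h)) * SekSuwa.AK.inv = 1 := by
  have := congrArg (SekSuwa.AK.mkHom R lam N h) (SekSuwa.A.u_mul_inv (R := R) (lam := lam))
  rw [map_mul, map_one, SekSuwa.A.u, map_add, map_one, map_smul] at this
  exact this

/-- `AK R λ N = R[T]/(P)`. -/
noncomputable def equivRoot (h : SekSuwa.DivCond lam N) (hN : 0 < N) :
    AdjoinRoot (SekSuwa.psiPoly lam N h) ≃ₐ[R] SekSuwa.AK R lam N h :=
  AlgEquiv.ofAlgHom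
    (AdjoinRoot.liftAlgHom _ (Algebra.ofId R _) (SekSuwa.AK.t : SekSuwa.AK R lam N h)
      (by simpa [Polynomial.aeval_def, Algebra.ofId] using SekSuwa.AK.aeval_t (R := R) (lam := lam) (N := N) (h := h)))
    (toRoot h hN)
    (by
      apply SekSuwa.AK.algHom_ext
      · rw [AlgHom.comp_apply, toRoot_t, AdjoinRoot.liftAlgHom_root]; rfl
      · rw [AlgHom.comp_apply, toRoot_inv, map_pow, map_add, map_one, map_smul,
          AdjoinRoot.liftAlgHom_root, AlgHom.id_apply]
        have hu := u_mul_inv (R := R) (lam := lam) (N := N) h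
        have hp := SekSuwa.AK.u_pow (R := R) (lam := lam) (N := N) (h := h)
        refine (IsUnit.of_mul_eq_one _ hu).mul_left_cancel ?_
        rw [hu, ← pow_succ', Nat.sub_add_cancel hN, hp])
    (by
      apply AdjoinRoot.algHom_ext
      rw [AlgHom.comp_apply, AdjoinRoot.liftAlgHom_root, toRoot_t]; rfl)

/-- The power basis `1, t, …` of `AK R λ N`. -/
noncomputable def powerBasis (h : SekSuwa.DivCond lam N) (hN : 0 < N) :
    PowerBasis R (SekSuwa.AK R lam N h) :=
  (AdjoinRoot.powerBasis' (monic h hN)).map (equivRoot h hN)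

theorem powerBasis_dim [Nontrivial R] (h : SekSuwa.DivCond lam N) (hN : 0 < N) :
    (powerBasis h hN).dim = N := by
  simp [powerBasis, natDegree_eq h hN]

end Groth.Agent.SekK
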