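import Groth.Agent.SekK.Unit
import Groth.Agent.FinQuot.Normal
import Mathlib

/-!
# Subgroups and quotients of a finite flat group with constant commutative generic fibre
-/

set_option autoImplicit false

universe u v
open TensorProduct WithConv

noncomputable section

namespace Groth.Agent.SekK

variable {R : Type u} [CommRing R] [IsDomain R] {K : Type u} [Field K] [Algebra R K] [IsFractionRing R K]

/-- Two jointly injective families of points are jointly injective on the tensor product. -/
theorem joint_two {A₁ A₂ : Type u} [CommRing A₁] [Algebra R A₁] [CommRing A₂] [Algebra R A₂]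
    [Module.Finite R A₁] [Module.Free R A₁] {N₁ N₂ : Type*} (χ₁ : N₁ → A₁ →ₐ[R] K) (χ₂ : N₂ → A₂ →ₐ[R] K)
    (h₁ : ∀ a, (∀ m, χ₁ m a = 0) → a = 0) (h₂ : ∀ a, (∀ m, χ₂ m a = 0) → a = 0) (z : A₁ ⊗[R] A₂)
    (hz : ∀ m n, Algebra.TensorProduct.lift (χ₁ m) (χ₂ n) (fun _ _ => Commute.all _ _) z = 0) : z = 0 := by
  classical
  let b := Module.Free.chooseBasis R A₁
  obtain ⟨x, rfl⟩ : ∃ x : _ → A₂, ∑ i, b i ⊗ₜ[R] x i = z := by
    refine ⟨fun i => TensorProduct.equivFinsuppOfBasisLeft b z i, ?_⟩
    conv_rhs => rw [← (TensorProduct.equivFinsuppOfBasisLeft b).symm_apply_apply z]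
    rw [TensorProduct.equivFinsuppOfBasisLeft_symm_apply, Finsupp.sum_fintype]
    simp
  refine Finset.sum_eq_zero fun i _ => ?_
  have hx : x i = 0 := h₂ _ fun n => by
    obtain ⟨s, hs⟩ := IsLocalization.exist_integer_multiples_of_finite (nonZeroDivisors R)
      fun j => χ₂ n (x j)
    choose r hr using hs
    have ha : ∑ j, r j • b j = 0 := h₁ _ fun m => by
      have h1 := hz m n
      simp only [map_sum, Algebra.TensorProduct.lift_tmul] at h1
      have h3 : ∀ j, χ₁ m (r j • b j) = algebraMap R K s * (χ₁ m (b j) * χ₂ n (x j)) := fun j => by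
        rw [map_smul, Algebra.smul_def, hr j, Algebra.smul_def]; ring
      rw [map_sum, Finset.sum_congr rfl (fun j _ => h3 j), ← Finset.mul_sum, h1, mul_zero]
    have h4 := hr i
    rw [Fintype.linearIndependent_iff.mp b.linearIndependent r ha i, map_zero, Algebra.smul_def,
      eq_comm, mul_eq_zero] at h4
    exact h4.resolve_left fun h => nonZeroDivisors.ne_zero s.2
      ((map_eq_zero_iff _ (IsFractionRing.injective R K)).mp h)
  rw [hx, TensorProduct.tmul_zero]

namespace Pts

variable {A : Type u} [CommRing A] [HopfAlgebra R A]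

section
variable {M : Type} [Group M] [Fintype M]

/-- Relabelling the points. -/
def congr (P : Pts R K A M) {N : Type} [Group N] [Fintype N] (σ : N ≃* M) : Pts R K A N where
  χ n := P.χ (σ n)
  χ_inj := P.χ_inj.comp σ.injective
  joint a ha := P.joint a fun m => by simpa using ha (σ.symm m)
  χ_mul m n := by rw [map_mul, P.χ_mul]
  χ_one := by rw [map_one, P.χ_one]

theorem torsionFree (P : Pts R K A M) : Module.IsTorsionFree R A :=
  .of_smul_eq_zero fun r a h => or_iff_not_imp_left.mpr fun hr => P.joint a fun m => by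
    have h1 := congrArg (P.χ m) h
    rw [map_smul, map_zero, Algebra.smul_def, mul_eq_zero] at h1
    exact h1.resolve_left fun h0 => hr ((map_eq_zero_iff _ (IsFractionRing.injective R K)).mp h0)

theorem χ_inv (P : Pts R K A M) (m : M) :
    (P.χ m).comp (HopfAlgebra.antipodeAlgHom R A) = P.χ m⁻¹ := by
  have h1 := FinQuot.inverse_mul (P.χ m)
  have h2 : toConv (P.χ m) * toConv (P.χ m⁻¹) = 1 := by rw [P.χ_mul, mul_inv_cancel, P.χ_one]
  exact congrArg WithConv.ofConv (left_inv_eq_right_inv h1 h2)

end

variable {M : Type} [CommGroup M] [Fintype M] (P : Pts R K A M)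

include P in
theorem isCocomm [Module.Finite R A] [Module.Free R A] : Coalgebra.IsCocomm R A := by
  refine ⟨LinearMap.ext fun a => sub_eq_zero.mp (P.joint₂ (Module.Free.chooseBasis R A) _ fun m n => ?_)⟩
  have h : ∀ z : A ⊗[R] A, Algebra.TensorProduct.lift (P.χ m) (P.χ n) (fun _ _ => Commute.all _ _)
      (TensorProduct.comm R A A z) =
      Algebra.TensorProduct.lift (P.χ n) (P.χ m) (fun _ _ => Commute.all _ _) z := by
    intro z
    induction z using TensorProduct.induction_on with
    | zero => simp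
    | add x y hx hy => simp [hx, hy]
    | tmul x y => simp [mul_comm]
  rw [map_sub, sub_eq_zero, LinearMap.comp_apply, LinearEquiv.coe_coe, h, P.χ_comul, P.χ_comul, mul_comm]

variable (H : Subgroup M)

/-- The ideal of the schematic closure of a subgroup of the generic fibre. -/
def ker : Ideal A := ⨅ m : H, RingHom.ker (P.χ m)

theorem mem_ker {a : A} : a ∈ P.ker H ↔ ∀ m : H, P.χ m a = 0 := by
  simp [ker, Ideal.mem_iInf, RingHom.mem_ker]

/-- The points of the closed subgroup. -/
def χsub (m : H) : A ⧸ P.ker H →ₐ[R] K :=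
  Ideal.Quotient.liftₐ (P.ker H) (P.χ m) fun _ ha => (P.mem_ker H).mp ha m

theorem χsub_mk (m : H) (a : A) : P.χsub H m (Ideal.Quotient.mk (P.ker H) a) = P.χ m a :=
  Ideal.Quotient.lift_mk _ _ _

theorem joint_sub (a : A ⧸ P.ker H) (h : ∀ m, P.χsub H m a = 0) : a = 0 := by
  obtain ⟨a, rfl⟩ := Ideal.Quotient.mk_surjective a
  exact Ideal.Quotient.eq_zero_iff_mem.mpr ((P.mem_ker H).mpr fun m => by rw [← P.χsub_mk H m a]; exact h m)

theorem torsionFree_sub : Module.IsTorsionFree R (A ⧸ P.ker H) :=
  .of_smul_eq_zero fun r a h => or_iff_not_imp_left.mpr fun hr => P.joint_sub H a fun m => by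
    have h1 := congrArg (P.χsub H m) h
    rw [map_smul, map_zero, Algebra.smul_def, mul_eq_zero] at h1
    exact h1.resolve_left fun h0 => hr ((map_eq_zero_iff _ (IsFractionRing.injective R K)).mp h0)

variable [IsPrincipalIdealRing R] [Module.Finite R A]

instance finite_sub : Module.Finite R (A ⧸ P.ker H) :=
  Module.Finite.of_surjective (Ideal.Quotient.mkₐ R (P.ker H)).toLinearMap Ideal.Quotient.mk_surjective

instance free_sub : Module.Free R (A ⧸ P.ker H) :=
  haveI := P.torsionFree_sub H
  Module.free_of_finite_type_torsion_free'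

include P in
theorem free : Module.Free R A :=
  haveI := P.torsionFree
  Module.free_of_finite_type_torsion_free'

instance isHopfIdeal : (P.ker H).IsHopfIdeal R where
  counit_eq_zero a ha := IsFractionRing.injective R K (by
    rw [← P.χ_counit, (P.mem_ker H).mp ha ⟨1, H.one_mem⟩, map_zero])
  map_mkQ_comul_eq_zero a ha := by
    show TensorProduct.map (Ideal.Quotient.mkₐ R (P.ker H)).toLinearMap
      (Ideal.Quotient.mkₐ R (P.ker H)).toLinearMap (CoalgebraStruct.comul a) = 0
    refine joint_two (P.χsub H) (P.χsub H) (P.joint_sub H) (P.joint_sub H) _ fun m n => ?_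
    have h : ∀ z : A ⊗[R] A, Algebra.TensorProduct.lift (P.χsub H m) (P.χsub H n) (fun _ _ => Commute.all _ _)
        (TensorProduct.map (Ideal.Quotient.mkₐ R (P.ker H)).toLinearMap
          (Ideal.Quotient.mkₐ R (P.ker H)).toLinearMap z) =
        Algebra.TensorProduct.lift (P.χ m) (P.χ n) (fun _ _ => Commute.all _ _) z := by
      intro z
      induction z using TensorProduct.induction_on with
      | zero => simp
      | add x y hx hy => simp only [map_add, hx, hy]
      | tmul x y =>
        rw [TensorProduct.map_tmul, Algebra.TensorProduct.lift_tmul, Algebra.TensorProduct.lift_tmul]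
        exact congrArg₂ (· * ·) (P.χsub_mk H m x) (P.χsub_mk H n y)
    rw [h, P.χ_comul]
    exact (P.mem_ker H).mp ha (m * n)
  antipode_mem a ha := (P.mem_ker H).mpr fun m => by
    have := DFunLike.congr_fun (P.χ_inv m) a
    exact this.trans ((P.mem_ker H).mp ha m⁻¹)

/-- The closed subgroup. -/
def sub : Pts R K (A ⧸ P.ker H) H where
  χ := P.χsub H
  χ_inj m n h := Subtype.ext (P.χ_inj (AlgHom.ext fun a => by
    rw [← P.χsub_mk H m a, ← P.χsub_mk H n a, h]))
  joint := P.joint_sub H
  χ_mul m n := by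
    refine WithConv.ofConv_injective (AlgHom.ext fun a => ?_)
    obtain ⟨a, rfl⟩ := Ideal.Quotient.mk_surjective a
    have h := AlgHom.convMul_comp_bialgHom_distrib (toConv (P.χsub H m)) (toConv (P.χsub H n))
      (FinQuot.projC (R := R) (P.ker H))
    have h2 : ∀ k : H, (P.χsub H k).comp (Ideal.Quotient.mkₐ R (P.ker H)) = P.χ k :=
      fun k => AlgHom.ext (P.χsub_mk H k)
    have h3 := DFunLike.congr_fun h a
    refine Eq.trans h3 ?_
    rw [FinQuot.projC_toAlgHom]
    show (toConv ((P.χsub H m).comp (Ideal.Quotient.mkₐ R (P.ker H))) *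
      toConv ((P.χsub H n).comp (Ideal.Quotient.mkₐ R (P.ker H)))).ofConv a = _
    rw [h2, h2, P.χ_mul]
    exact (P.χsub_mk H (m * n) a).symm
  χ_one := by
    refine WithConv.ofConv_injective (AlgHom.ext fun a => ?_)
    obtain ⟨a, rfl⟩ := Ideal.Quotient.mk_surjective a
    exact (P.χsub_mk H 1 a).trans (P.χ_counit a)

theorem mem_inv {a : A} :
    a ∈ FinQuot.inv R (P.ker H) ↔ ∀ (m : M) (n : H), P.χ (m * n) a = P.χ m a := by
  haveI := P.free
  have h : ∀ (m : M) (n : H) (z : A ⊗[R] A),
      Algebra.TensorProduct.lift (P.χ m) (P.χsub H n) (fun _ _ => Commute.all _ _)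
        (Algebra.TensorProduct.map (AlgHom.id R A) (Ideal.Quotient.mkₐ R (P.ker H)) z) =
      Algebra.TensorProduct.lift (P.χ m) (P.χ n) (fun _ _ => Commute.all _ _) z := by
    intro m n z
    induction z using TensorProduct.induction_on with
    | zero => simp
    | add x y hx hy => simp only [map_add, hx, hy]
    | tmul x y =>
      rw [Algebra.TensorProduct.map_tmul, Algebra.TensorProduct.lift_tmul, Algebra.TensorProduct.lift_tmul]
      exact congrArg₂ (· * ·) rfl (P.χsub_mk H n y)
  have h1 : ∀ (m : M) (n : H), Algebra.TensorProduct.lift (P.χ m) (P.χsub H n) (fun _ _ => Commute.all _ _)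
      (FinQuot.tA (R := R) (P.ker H) a - a ⊗ₜ 1) = P.χ (m * n) a - P.χ m a := by
    intro m n
    rw [map_sub, Algebra.TensorProduct.lift_tmul, map_one, mul_one, FinQuot.tA, AlgHom.comp_apply, h]
    exact congrArg (· - P.χ m a) (P.χ_comul m n a)
  rw [FinQuot.mem_inv]
  refine ⟨fun ha m n => sub_eq_zero.mp ?_, fun ha => sub_eq_zero.mp ?_⟩
  · rw [← h1, ha, sub_self, map_zero]
  · exact joint_two P.χ (P.χsub H) P.joint (P.joint_sub H) _ fun m n => by rw [h1, ha, sub_self]

theorem isNormal : SGA3.IsNormalHopfIdeal R A (P.ker H) := by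
  haveI := P.free
  haveI := P.isCocomm
  intro C _ _ g h hh a ha
  have h3 : Dyn.conv3 R A g h (g.comp (HopfAlgebra.antipodeAlgHom R A)) =
      (toConv g * toConv h * toConv (g.comp (HopfAlgebra.antipodeAlgHom R A))).ofConv := by
    refine AlgHom.ext fun x => ?_
    simp only [Dyn.conv3, AlgHom.convMul_def, AlgHom.comp_apply]
    congr 1
    generalize Bialgebra.comulAlgHom R A x = z
    induction z using TensorProduct.induction_on with
    | zero => simp
    | add x y hx hy => simp only [map_add, hx, hy]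
    | tmul x y => simp
  rw [h3, mul_right_comm, FinQuot.mul_inverse, one_mul]
  exact hh a ha

theorem isHopfSub : SGA3.IsHopfSubalgebra R A (FinQuot.inv R (P.ker H)) :=
  haveI := P.free
  haveI := FinQuot.inv_flat (R := R) (P.ker H)
  FinQuot.isHopfSubalgebra_inv (P.isNormal H)

/-- The Hopf algebra of the quotient. -/
@[implicit_reducible]
def quotHopf : HopfAlgebra R (FinQuot.inv R (P.ker H)) :=
  haveI := P.free
  haveI := FinQuot.inv_flat (R := R) (P.ker H)
  FinQuot.subHopf _ (P.isHopfSub H).1 (P.isHopfSub H).2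

/-- The inclusion of the invariant functions. -/
def quotHom : letI := P.quotHopf H; FinQuot.inv R (P.ker H) →ₐc[R] A :=
  letI := P.quotHopf H
  BialgHom.ofAlgHom (FinQuot.inv R (P.ker H)).val
    (AlgHom.ext fun _ => rfl)
    (AlgHom.ext fun b =>
      haveI := P.free
      haveI := FinQuot.inv_flat (R := R) (P.ker H)
      FinQuot.subIncl₂_subComul _ (P.isHopfSub H).1 b)

theorem χ_eq_of_mk_eq {m m' : M} (h : (m : M ⧸ H) = m') (a : FinQuot.inv R (P.ker H)) :
    P.χ m a = P.χ m' a := by
  obtain ⟨k, hk, rfl⟩ : ∃ k ∈ H, m * k = m' := ⟨m⁻¹ * m', QuotientGroup.eq.mp h, mul_inv_cancel_left _ _⟩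
  exact (((P.mem_inv H).mp a.2) m ⟨k, hk⟩).symm

/-- The quotient. -/
def quot [Fintype (M ⧸ H)] : letI := P.quotHopf H; Pts R K (FinQuot.inv R (P.ker H)) (M ⧸ H) :=
  letI := P.quotHopf H
  { χ := fun c => (P.χ c.out).comp (FinQuot.inv R (P.ker H)).val
    χ_inj := fun c c' h => by
      classical
      by_contra hne
      haveI := P.free
      let b := Module.Free.chooseBasis R A
      obtain ⟨x, hx⟩ := P.T_surjective b fun m => if (m : M ⧸ H) = c then 1 else 0
      obtain ⟨s, hs⟩ := IsLocalization.exist_integer_multiples_of_finite (nonZeroDivisors R) x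
      choose r hr using hs
      have ha : ∀ m, P.χ m (∑ i, r i • b i) =
          algebraMap R K s * if (m : M ⧸ H) = c then 1 else 0 := by
        intro m
        have h2 : ∑ i, x i * P.χ m (b i) = if (m : M ⧸ H) = c then 1 else 0 := congrFun hx m
        rw [map_sum, ← h2, Finset.mul_sum]
        refine Finset.sum_congr rfl fun i _ => ?_
        rw [map_smul, Algebra.smul_def, hr i, Algebra.smul_def, mul_assoc]
      have hmem : ∑ i, r i • b i ∈ FinQuot.inv R (P.ker H) := (P.mem_inv H).mpr fun m n => by
        rw [ha, ha, QuotientGroup.mk_mul_of_mem m n.2]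
      have h5 := DFunLike.congr_fun h ⟨_, hmem⟩
      simp only [AlgHom.comp_apply, Subalgebra.val_apply] at h5
      rw [ha, ha, QuotientGroup.out_eq', QuotientGroup.out_eq', if_pos rfl, if_neg (Ne.symm hne),
        mul_one, mul_zero] at h5
      exact nonZeroDivisors.ne_zero s.2 ((map_eq_zero_iff _ (IsFractionRing.injective R K)).mp h5)
    joint := fun a ha => Subtype.ext (P.joint _ fun m => by
      rw [P.χ_eq_of_mk_eq H (QuotientGroup.out_eq' (m : M ⧸ H)).symm]
      exact ha _)
    χ_mul := fun c c' => by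
      refine WithConv.ofConv_injective (AlgHom.ext fun a => ?_)
      have h := DFunLike.congr_fun
        (AlgHom.convMul_comp_bialgHom_distrib (toConv (P.χ c.out)) (toConv (P.χ c'.out)) (P.quotHom H)) a
      refine h.symm.trans ?_
      show (toConv (P.χ c.out) * toConv (P.χ c'.out)).ofConv (a : A) = P.χ (c * c').out a
      rw [P.χ_mul]
      refine P.χ_eq_of_mk_eq H ?_ a
      rw [QuotientGroup.mk_mul, QuotientGroup.out_eq', QuotientGroup.out_eq', QuotientGroup.out_eq']
    χ_one := by
      refine WithConv.ofConv_injective (AlgHom.ext fun a => ?_)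
      show P.χ (1 : M ⧸ H).out a = _
      rw [P.χ_eq_of_mk_eq H (m' := 1) (by rw [QuotientGroup.out_eq', QuotientGroup.mk_one]) a]
      exact P.χ_counit a }

end Pts

end Groth.Agent.SekK
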